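import Mathlib.GroupTheory.Perm.ClosureSwap
import Mathlib.GroupTheory.SpecificGroups.Alternating.KleinFour
import Mathlib.GroupTheory.Solvable

/-!
# Groups generated by few transpositions
-/

set_option autoImplicit false

namespace Cfsg.Agent.SylowNum

open Equiv

variable {α : Type*} [Fintype α] [DecidableEq α]

/-- An orbit of a group generated by `m` transpositions has at most `m + 1` points. -/
theorem orbit_closure_swaps_card_le (T : Finset (Perm α)) (hT : ∀ t ∈ T, t.IsSwap) (a : α) :
    Nat.card (MulAction.orbit (Subgroup.closure (T : Set (Perm α))) a) ≤ T.card + 1 := by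
  classical
  let Good : Finset α → Prop := fun U =>
    a ∈ U ∧ U.card ≤ 1 + (T.filter fun t => t.support ⊆ U).card
  obtain ⟨U, hU, hmax⟩ := Finset.exists_max_image (Finset.univ.filter Good) Finset.card
    ⟨{a}, by simp [Good]⟩
  rw [Finset.mem_filter] at hU
  obtain ⟨-, ha, hcard⟩ := hU
  have hclosed : ∀ t ∈ T, ∀ u ∈ U, t u ∈ U := by
    intro t ht u hu
    by_contra htu
    have h2 : t.support = {u, t u} := by
      obtain ⟨x, y, hxy, rfl⟩ := hT t ht
      have hne : Equiv.swap x y u ≠ u := fun h => htu (h.symm ▸ hu)
      rcases eq_or_ne u x with rfl | hux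
      · rw [Equiv.swap_apply_left, Perm.support_swap hxy]
      · rcases eq_or_ne u y with rfl | huy
        · rw [Equiv.swap_apply_right, Perm.support_swap hxy, Finset.pair_comm]
        · exact absurd (Equiv.swap_apply_of_ne_of_ne hux huy) hne
    have hgood : Good (insert (t u) U) := by
      refine ⟨Finset.mem_insert_of_mem ha, ?_⟩
      rw [Finset.card_insert_of_notMem htu]
      have hlt : (T.filter fun s => s.support ⊆ U).card <
          (T.filter fun s => s.support ⊆ insert (t u) U).card := by
        refine Finset.card_lt_card ⟨?_, ?_⟩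
        · intro s hs
          rw [Finset.mem_filter] at hs ⊢
          exact ⟨hs.1, hs.2.trans (Finset.subset_insert _ _)⟩
        · intro hsub
          have htm : t ∈ T.filter fun s => s.support ⊆ insert (t u) U := by
            rw [Finset.mem_filter]
            refine ⟨ht, ?_⟩
            rw [h2]
            intro z hz
            rcases Finset.mem_insert.mp hz with rfl | hz
            · exact Finset.mem_insert_of_mem hu
            · exact Finset.mem_insert.mpr (Or.inl (Finset.mem_singleton.mp hz))
          have := (Finset.mem_filter.mp (hsub htm)).2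
          rw [h2] at this
          exact htu (this (by simp))
      omega
    have := hmax _ (Finset.mem_filter.mpr ⟨Finset.mem_univ _, hgood⟩)
    rw [Finset.card_insert_of_notMem htu] at this
    omega
  have hinv : ∀ g ∈ Subgroup.closure (T : Set (Perm α)), ∀ u ∈ U, g u ∈ U := by
    intro g hg
    induction hg using Subgroup.closure_induction with
    | mem t ht => exact hclosed t ht
    | one => simp
    | mul g h _ _ hg hh => intro u hu; rw [Perm.mul_apply]; exact hg _ (hh u hu)
    | inv g _ hg =>
      intro u hu
      have h1 : U.image g = U := Finset.eq_of_subset_of_card_le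
        (Finset.image_subset_iff.mpr hg) (Finset.card_image_of_injective _ g.injective).ge
      rw [← h1, Finset.mem_image] at hu
      obtain ⟨v, hv, rfl⟩ := hu
      rw [Perm.inv_def, Equiv.symm_apply_apply]
      exact hv
  calc Nat.card (MulAction.orbit (Subgroup.closure (T : Set (Perm α))) a)
      ≤ Nat.card (U : Set α) := Nat.card_mono (Finset.finite_toSet U) (by
        rintro _ ⟨⟨g, hg⟩, rfl⟩
        exact hinv g hg a ha)
    _ = U.card := by simp
    _ ≤ T.card + 1 := by
      have := Finset.card_filter_le T (fun t => t.support ⊆ U)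
      omega

theorem isSolvable_perm_four : Group.IsSolvable (Perm (Fin 4)) := by
  have h4 : Nat.card (Fin 4) = 4 := by simp
  have hA : Group.IsSolvable (alternatingGroup (Fin 4)) := by
    have hc : commutator (alternatingGroup (Fin 4)) = alternatingGroup.kleinFour (Fin 4) :=
      (alternatingGroup.kleinFour_eq_commutator h4).symm
    have := alternatingGroup.kleinFour_isKleinFour (α := Fin 4) h4
    refine ⟨2, ?_⟩
    rw [derivedSeries_succ, derivedSeries_one, hc, eq_bot_iff,
      Subgroup.commutator_le]
    intro a ha b hb
    rw [Subgroup.mem_bot, commutatorElement_eq_one_iff_mul_comm]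
    exact congrArg Subtype.val
      (mul_comm_of_exponent_two IsKleinFour.exponent_two ⟨a, ha⟩ ⟨b, hb⟩)
  exact Group.isSolvable_of_ker_le_range (alternatingGroup (Fin 4)).subtype
    (Perm.sign : Perm (Fin 4) →* ℤˣ) (fun x hx => ⟨⟨x, hx⟩, rfl⟩)

theorem isSolvable_perm_of_card_le_four {β : Type*} [Finite β] (h : Nat.card β ≤ 4) :
    Group.IsSolvable (Perm β) := by
  have := isSolvable_perm_four
  have := Fintype.ofFinite β
  obtain ⟨e⟩ : Nonempty (β ↪ Fin 4) :=
    Function.Embedding.nonempty_of_card_le (by rw [← Nat.card_eq_fintype_card]; simpa using h)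
  exact Group.isSolvable_of_isSolvable_injective (Perm.viaEmbeddingHom_injective e)

/-- A group acting faithfully on a finite set with all orbits of size at most 4 is solvable. -/
theorem isSolvable_of_orbits_le_four {K β : Type*} [Group K] [MulAction K β] [FaithfulSMul K β]
    [Finite β] (h : ∀ b : β, Nat.card (MulAction.orbit K b) ≤ 4) : Group.IsSolvable K := by
  classical
  have := Fintype.ofFinite β
  have hsol : ∀ b : β, ∃ n, derivedSeries (Perm (MulAction.orbit K b)) n = ⊥ :=
    fun b => (isSolvable_perm_of_card_le_four (h b)).1
  choose n hn using hsol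
  refine ⟨Finset.univ.sup n, ?_⟩
  rw [eq_bot_iff]
  intro x hx
  rw [Subgroup.mem_bot]
  apply FaithfulSMul.eq_of_smul_eq_smul (α := β)
  intro b
  have h1 := derivedSeries_antitone K (Finset.le_sup (f := n) (Finset.mem_univ b)) hx
  have h2 := map_derivedSeries_le_derivedSeries (MulAction.toPermHom K (MulAction.orbit K b)) (n b)
    (Subgroup.mem_map_of_mem _ h1)
  rw [hn b, Subgroup.mem_bot] at h2
  have h3 := congrArg Subtype.val (Equiv.ext_iff.mp h2 ⟨b, MulAction.mem_orbit_self b⟩)
  rw [one_smul]
  simpa using h3

end Cfsg.Agent.SylowNum
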