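import Cfsg.Agent.SylowNum.Small

/-!
# M. Hall's formula for Sylow numbers
-/

set_option autoImplicit false

namespace Cfsg.Agent.SylowNum

open scoped Pointwise
open MulAction

section Orbit

variable {G X : Type*} [Group G] [MulAction G X]

theorem relIndex_stabilizer_eq (A : Subgroup G) (x : X) :
    (stabilizer G x).relIndex A = Nat.card (orbit A x) := by
  have h : stabilizer A x = (stabilizer G x).subgroupOf A := by
    ext a; rfl
  rw [Subgroup.relIndex, ← h, index_stabilizer, Nat.card_coe_set_eq]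

theorem relIndex_stabilizer_congr {A M : Subgroup G} (hMA : M ≤ A) (x : X)
    (h : ∀ a ∈ A, ∃ m ∈ M, a • x = m • x) :
    (stabilizer G x).relIndex A = (stabilizer G x).relIndex M := by
  rw [relIndex_stabilizer_eq, relIndex_stabilizer_eq]
  congr 2
  ext y
  constructor
  · rintro ⟨⟨a, ha⟩, rfl⟩
    obtain ⟨m, hm, hm'⟩ := h a ha
    exact ⟨⟨m, hm⟩, hm'.symm⟩
  · rintro ⟨⟨m, hm⟩, rfl⟩
    exact ⟨⟨m, hMA hm⟩, rfl⟩

end Orbit

variable {G : Type*} [Group G] [Finite G] {p : ℕ} [hp : Fact p.Prime]

theorem normalizer_eq_stabilizer (P : Sylow p G) :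
    Subgroup.normalizer (P : Set G) = stabilizer G P := by
  ext g
  rw [mem_stabilizer_iff, Sylow.smul_eq_iff_mem_normalizer]

theorem card_sylow_subgroup {H : Subgroup G} (P : Sylow p G) (hP : (P : Subgroup G) ≤ H) :
    Nat.card (Sylow p H) = (Subgroup.normalizer (P : Set G)).relIndex H := by
  have h2 := Subgroup.subgroupOf_normalizer_eq (H := (P : Subgroup G)) (N := H) hP
  rw [Sylow.card_eq_index_normalizer (P.subtype hP), Subgroup.relIndex]
  change (Subgroup.normalizer ((((P : Subgroup G).subgroupOf H : Subgroup H)) : Set H)).index = _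
  rw [← h2]
  rfl

theorem card_sylow_quotient_of_pGroup (D : Subgroup G) [D.Normal] (hD : IsPGroup p D) :
    Nat.card (Sylow p (G ⧸ D)) = Nat.card (Sylow p G) := by
  have hs := QuotientGroup.mk'_surjective D
  refine (Nat.card_eq_of_bijective (Sylow.mapSurjective hs)
    ⟨fun Q R h => ?_, Sylow.mapSurjective_surjective hs p⟩).symm
  have h' := congrArg Sylow.toSubgroup h
  rw [Sylow.coe_mapSurjective, Sylow.coe_mapSurjective] at h'
  have h2 := congrArg (Subgroup.comap (QuotientGroup.mk' D)) h'
  rw [Subgroup.comap_map_eq, Subgroup.comap_map_eq, QuotientGroup.ker_mk',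
    sup_eq_left.mpr (hD.le_sylow_of_normal Q), sup_eq_left.mpr (hD.le_sylow_of_normal R)] at h2
  exact Sylow.ext h2

theorem relIndex_inf_normal_not_dvd (K : Subgroup G) [K.Normal] (P : Sylow p G) :
    ¬ p ∣ ((P : Subgroup G) ⊓ K).relIndex K := by
  rw [Subgroup.inf_relIndex_right]
  intro hd
  have h3 := Subgroup.relIndex_mul_index (inf_le_left : (P : Subgroup G) ⊓ K ≤ P)
  have h4 := Subgroup.relIndex_mul_index (inf_le_right : (P : Subgroup G) ⊓ K ≤ K)
  rw [Subgroup.inf_relIndex_left] at h3
  rw [Subgroup.inf_relIndex_right] at h4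
  obtain ⟨e, he⟩ := Subgroup.relIndex_dvd_index_of_normal (H := K) (K := (P : Subgroup G))
  have hne : K.relIndex (P : Subgroup G) ≠ 0 :=
    Subgroup.index_ne_zero_of_finite (H := K.subgroupOf (P : Subgroup G))
  have h5 : (P : Subgroup G).index = (P : Subgroup G).relIndex K * e := by
    apply Nat.eq_of_mul_eq_mul_left (Nat.pos_of_ne_zero hne)
    rw [h3, ← h4, he]; ring
  exact P.not_dvd_index (h5 ▸ hd.mul_right e)

/-- The Sylow subgroup `P ∩ K` of a normal subgroup `K`. -/
def infSylow (K : Subgroup G) [K.Normal] (P : Sylow p G) : Sylow p K :=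
  ((P.isPGroup'.to_le (inf_le_left : (P : Subgroup G) ⊓ K ≤ P)).comap_of_injective K.subtype
    K.subtype_injective).toSylow (relIndex_inf_normal_not_dvd K P)

theorem card_sylow_normal (K : Subgroup G) [K.Normal] (P : Sylow p G) :
    Nat.card (Sylow p K) =
      (Subgroup.normalizer (((P : Subgroup G) ⊓ K : Subgroup G) : Set G)).relIndex K := by
  have h2 := Subgroup.subgroupOf_normalizer_eq (H := (P : Subgroup G) ⊓ K) (N := K) inf_le_right
  rw [Sylow.card_eq_index_normalizer (infSylow K P), Subgroup.relIndex]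
  rw [← Sylow.coe_coe, show ((infSylow K P : Sylow p K) : Subgroup K) = ((P : Subgroup G) ⊓ K).subgroupOf K from rfl, ← h2]

/-- M. Hall: `n_p(G) = n_p(G/K) · n_p(PK)` and `n_p(PK) = n_p(K) · n_p(N_{PK}(P ∩ K))`. -/
theorem card_sylow_formula (K : Subgroup G) [K.Normal] (P : Sylow p G) :
    Nat.card (Sylow p G) = Nat.card (Sylow p (G ⧸ K)) * Nat.card (Sylow p K) *
      Nat.card (Sylow p ↥(((P : Subgroup G) ⊔ K) ⊓
        Subgroup.normalizer (((P : Subgroup G) ⊓ K : Subgroup G) : Set G))) := by
  set D := (P : Subgroup G) ⊓ K with hDdef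
  set M := (P : Subgroup G) ⊔ K with hMdef
  set NP := Subgroup.normalizer (P : Set G) with hNP
  set N := M ⊓ Subgroup.normalizer (D : Set G) with hNdef
  set A := Subgroup.normalizer (M : Set G) with hAdef
  have hKA : ∀ a : G, MulAut.conj a • K = K := fun a => Subgroup.Normal.conj_smul_eq_self a K
  have hNPA : NP ≤ A := by
    intro g hg
    have h1 : MulAut.conj g • (P : Subgroup G) = P := by
      rw [← Sylow.coe_subgroup_smul, Sylow.smul_eq_iff_mem_normalizer.mpr hg]
    rw [hAdef, Subgroup.mem_normalizer_iff_map_conj_eq]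
    change MulAut.conj g • M = M
    rw [hMdef, Subgroup.smul_sup, h1, hKA]
  have hDnorm : ∀ y ∈ NP, MulAut.conj y • D = D := by
    intro y hy
    have h1 : MulAut.conj y • (P : Subgroup G) = P := by
      rw [← Sylow.coe_subgroup_smul, Sylow.smul_eq_iff_mem_normalizer.mpr hy]
    rw [hDdef, Subgroup.smul_inf, h1, hKA]
  have hPN : (P : Subgroup G) ≤ N := le_inf le_sup_left fun y hy => by
    rw [Subgroup.mem_normalizer_iff_map_conj_eq]
    exact hDnorm y (Subgroup.le_normalizer hy)
  -- the three indices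
  have hq : Nat.card (Sylow p (G ⧸ K)) = A.index := by
    rw [Sylow.card_eq_index_normalizer (P.mapSurjective (QuotientGroup.mk'_surjective K)),
      ← Subgroup.index_comap_of_surjective _ (QuotientGroup.mk'_surjective K), ← Sylow.coe_coe,
      Subgroup.comap_normalizer_eq_of_surjective _ (QuotientGroup.mk'_surjective K),
      Sylow.coe_mapSurjective, Subgroup.comap_map_eq, QuotientGroup.ker_mk']
  have hM : Nat.card (Sylow p M) = NP.relIndex A := by
    rw [card_sylow_subgroup P le_sup_left, hNP, normalizer_eq_stabilizer]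
    refine (relIndex_stabilizer_congr Subgroup.le_normalizer P fun a ha => ?_).symm
    have hle : ((a • P : Sylow p G) : Subgroup G) ≤ M := by
      rw [Sylow.coe_subgroup_smul]
      rw [Subgroup.mem_normalizer_iff_map_conj_eq] at ha
      exact le_trans (Subgroup.map_mono le_sup_left) (le_of_eq ha)
    obtain ⟨m, hm⟩ := MulAction.exists_smul_eq M (P.subtype le_sup_left : Sylow p M)
      ((a • P).subtype hle)
    refine ⟨m, m.2, (Sylow.subtype_injective (hP := hle) (hQ := Sylow.smul_le le_sup_left m) ?_)⟩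
    rw [← hm, Sylow.smul_subtype]
    rfl
  have hK : Nat.card (Sylow p K) = N.relIndex M := by
    rw [card_sylow_normal K P, hNdef, Subgroup.inf_relIndex_left, ← hDdef]
    have hst : Subgroup.normalizer (D : Set G) = (stabilizer (MulAut G) D).comap MulAut.conj := by
      ext g
      rw [Subgroup.mem_normalizer_iff_map_conj_eq, Subgroup.mem_comap, mem_stabilizer_iff]
      rfl
    let : MulAction G (Subgroup G) := MulAction.compHom (Subgroup G) MulAut.conj
    have hst' : Subgroup.normalizer (D : Set G) = stabilizer G D := by rw [hst]; rfl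
    rw [hst']
    refine (relIndex_stabilizer_congr le_sup_right D fun a ha => ?_).symm
    rw [sup_comm, ← SetLike.mem_coe, Subgroup.normal_mul] at ha
    obtain ⟨k, hk, y, hy, rfl⟩ := Set.mem_mul.mp ha
    refine ⟨k, hk, ?_⟩
    change MulAut.conj (k * y) • D = MulAut.conj k • D
    rw [map_mul, mul_smul, hDnorm y (Subgroup.le_normalizer hy)]
  rw [hq, hK, card_sylow_subgroup P hPN, ← hNP]
  have e1 : NP.relIndex N * N.relIndex M = NP.relIndex M := by
    have h1 : NP ⊓ M ≤ N := by
      refine le_inf inf_le_right fun y hy => ?_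
      rw [Subgroup.mem_normalizer_iff_map_conj_eq]
      exact hDnorm y hy.1
    have h2 := Subgroup.relIndex_mul_relIndex (NP ⊓ M) N M h1 inf_le_left
    rw [Subgroup.inf_relIndex_right] at h2
    have h3 : (NP ⊓ M).relIndex N = NP.relIndex N := by
      rw [← Subgroup.inf_relIndex_right (NP ⊓ M) N, ← Subgroup.inf_relIndex_right NP N, inf_assoc,
        inf_eq_right.mpr (inf_le_left : N ≤ M)]
    rwa [h3] at h2
  rw [Sylow.card_eq_index_normalizer P, ← hNP, ← Subgroup.relIndex_mul_index hNPA, ← hM,
    card_sylow_subgroup P le_sup_left, ← hNP, ← e1]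
  ring

end Cfsg.Agent.SylowNum
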