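import Cfsg.Agent.SylowNum.Simple
import Mathlib.Tactic.NormNum.Prime
import Mathlib.GroupTheory.SpecificGroups.Alternating
import Mathlib.GroupTheory.GroupAction.Primitive

/-!
# Subgroups of the symmetric group on seven points
-/

set_option autoImplicit false

namespace Cfsg.Agent.SylowNum

open MulAction

theorem centralizer_card_le_of_transitive {H X : Type*} [Group H] [Finite X] [MulAction H X]
    [FaithfulSMul H X] (Q : Subgroup H) [IsPretransitive Q X] (x₀ : X) :
    Nat.card (Subgroup.centralizer (Q : Set H)) ≤ Nat.card X := by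
  refine Nat.card_le_card_of_injective (fun c => (c : H) • x₀) fun a b h => ?_
  apply Subtype.ext
  apply FaithfulSMul.eq_of_smul_eq_smul (α := X)
  intro z
  obtain ⟨q, rfl⟩ := MulAction.exists_smul_eq Q x₀ z
  change (a : H) • (q : H) • x₀ = (b : H) • (q : H) • x₀
  rw [← mul_smul, ← Subgroup.mem_centralizer_iff.mp a.2 q q.2, mul_smul,
    show (a : H) • x₀ = (b : H) • x₀ from h, ← mul_smul,
    Subgroup.mem_centralizer_iff.mp b.2 q q.2, mul_smul]

theorem card_normalizer_dvd {H : Type*} [Group H] [Finite H] (Q : Subgroup H) [IsCyclic Q] :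
    Nat.card (Subgroup.normalizer (Q : Set H)) ∣
      Nat.totient (Nat.card Q) * Nat.card (Subgroup.centralizer (Q : Set H)) := by
  let f := Subgroup.normalizerMonoidHom (H := Q)
  have key := Subgroup.card_dvd_of_injective _ (QuotientGroup.kerLift_injective f)
  rw [IsCyclic.card_mulAut] at key
  have hker : Nat.card f.ker = Nat.card (Subgroup.centralizer (Q : Set H)) := by
    change Nat.card (Subgroup.normalizerMonoidHom (H := Q)).ker = _
    rw [Subgroup.normalizerMonoidHom_ker,
      Nat.card_congr (Subgroup.subgroupOfEquivOfLe (Subgroup.centralizer_le_normalizer _)).toEquiv]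
  rw [Subgroup.card_eq_card_quotient_mul_card_subgroup f.ker, hker]
  exact Nat.mul_dvd_mul_right key _

/-- A faithful transitive group of degree seven has Sylow 7-normalizers of order dividing 42. -/
theorem normalizer_seven {H X : Type*} [Group H] [Finite H] [Finite X] [MulAction H X]
    [FaithfulSMul H X] (hX : Nat.card X = 7) (Q : Subgroup H) (hQ : Nat.card Q = 7) :
    IsPretransitive Q X ∧ Nat.card (Subgroup.normalizer (Q : Set H)) ∣ 42 := by
  have h7 : Fact (Nat.Prime 7) := ⟨by norm_num⟩
  have hQp : IsPGroup 7 Q := IsPGroup.of_card (n := 1) (by rw [hQ, pow_one])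
  have htr : IsPretransitive Q X := by
    obtain ⟨x₀, hx₀⟩ : ∃ x₀ : X, x₀ ∉ fixedPoints Q X := by
      by_contra h
      push Not at h
      have hbot : Q = ⊥ := by
        rw [eq_bot_iff]
        intro q hq
        rw [Subgroup.mem_bot]
        apply FaithfulSMul.eq_of_smul_eq_smul (α := X)
        intro z
        rw [one_smul]
        exact h z ⟨q, hq⟩
      rw [hbot, Subgroup.card_bot] at hQ
      omega
    have h7o : Nat.card (orbit Q x₀) = 7 := by
      obtain ⟨k, hk⟩ := hQp.card_orbit x₀
      have hle : Nat.card (orbit Q x₀) ≤ 7 := hX ▸ Finite.card_subtype_le _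
      rw [hk] at hle ⊢
      rcases k with _ | _ | k
      · exfalso
        apply hx₀
        intro q
        have hsub := (Nat.card_eq_one_iff_unique.mp (hk.trans (pow_zero _))).1
        exact congrArg Subtype.val (Subsingleton.elim (α := orbit Q x₀)
          ⟨q • x₀, mem_orbit _ q⟩ ⟨x₀, mem_orbit_self x₀⟩)
      · norm_num
      · exfalso
        have : 7 ^ 2 ≤ 7 ^ (k + 1 + 1) := Nat.pow_le_pow_right (by norm_num) (by omega)
        omega
    rw [isPretransitive_iff_orbit_eq_univ x₀]
    exact Set.eq_of_subset_of_ncard_le (Set.subset_univ _)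
      (by rw [Set.ncard_univ, hX, ← Nat.card_coe_set_eq, h7o]) (Set.toFinite _)
  refine ⟨htr, ?_⟩
  have : IsCyclic Q := isCyclic_of_prime_card hQ
  obtain ⟨x₀⟩ : Nonempty X := by
    rw [← Finite.card_pos_iff, hX]; norm_num
  have hle := centralizer_card_le_of_transitive (X := X) Q x₀
  have hQC : Q ≤ Subgroup.centralizer (Q : Set H) := by
    intro a ha
    rw [Subgroup.mem_centralizer_iff]
    intro b hb
    obtain ⟨g, hg⟩ := IsCyclic.exists_generator (α := Q)
    obtain ⟨i, hi⟩ := Subgroup.mem_zpowers_iff.mp (hg ⟨a, ha⟩)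
    obtain ⟨j, hj⟩ := Subgroup.mem_zpowers_iff.mp (hg ⟨b, hb⟩)
    have hcm : (⟨b, hb⟩ : Q) * ⟨a, ha⟩ = ⟨a, ha⟩ * ⟨b, hb⟩ := by
      rw [← hi, ← hj, ← zpow_add, add_comm, zpow_add]
    exact congrArg Subtype.val hcm
  have hd := hQ ▸ Subgroup.card_dvd_of_le hQC
  have hC : Nat.card (Subgroup.centralizer (Q : Set H)) = 7 := by
    have hpos := Nat.card_pos (α := Subgroup.centralizer (Q : Set H))
    rw [hX] at hle
    exact le_antisymm hle (Nat.le_of_dvd hpos hd)
  have h := card_normalizer_dvd Q
  rw [hC, hQ, Nat.totient_prime h7.out] at h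
  simpa using h

/-- Some orders that do not occur among subgroups of the symmetric group on seven points. -/
theorem not_perm_seven_order {H X : Type*} [Group H] [Finite H] [Fintype X] [DecidableEq X]
    [MulAction H X] [FaithfulSMul H X] (hX : Nat.card X = 7)
    (hH : Nat.card H = 35 ∨ Nat.card H = 280 ∨ Nat.card H = 560 ∨ Nat.card H = 112) : False := by
  have h7 : Fact (Nat.Prime 7) := ⟨by norm_num⟩
  have key : ∀ (K : Subgroup H) (n : ℕ), Nat.card K = n → 7 ∣ n → ¬ 49 ∣ n →
      ∀ Q : Sylow 7 K, ∃ e, e ∣ 6 ∧ Nat.card (Sylow 7 K) * (7 * e) = n ∧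
        Nat.card (Sylow 7 K) % 7 = 1 := by
    intro K n hK hd hd2 Q
    obtain ⟨k, hk⟩ := IsPGroup.iff_card.mp Q.isPGroup'
    have hk1 : k = 1 := by
      have h1 : 7 ^ k ∣ n := hK ▸ hk ▸ Subgroup.card_subgroup_dvd_card _
      have h2 : k ≤ 1 := by
        by_contra h
        exact hd2 ((show 49 = 7 ^ 2 by norm_num) ▸ (pow_dvd_pow 7 (by omega)).trans h1)
      rcases Nat.eq_zero_or_pos k with h0 | h0
      · exfalso
        have h3 := Q.dvd_card_of_dvd_card (hK ▸ hd)
        rw [hk, h0, pow_zero] at h3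
        norm_num at h3
      · omega
    rw [hk1, pow_one] at hk
    obtain ⟨-, hN⟩ := normalizer_seven (H := K) hX (Q : Subgroup K) hk
    have h7N : 7 ∣ Nat.card (Subgroup.normalizer ((Q : Subgroup K) : Set K)) :=
      (dvd_of_eq hk.symm).trans (Subgroup.card_dvd_of_le Subgroup.le_normalizer)
    obtain ⟨e, he⟩ := h7N
    refine ⟨e, ?_, ?_, card_sylow_modEq_one 7 K⟩
    · rw [he] at hN
      exact Nat.dvd_of_mul_dvd_mul_left (by norm_num) (hN.trans (dvd_of_eq (by norm_num)))
    · rw [Q.card_eq_index_normalizer, ← Sylow.coe_coe, ← he, mul_comm, Subgroup.card_mul_index, hK]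
  have htop : Nat.card (⊤ : Subgroup H) = Nat.card H := Subgroup.card_top
  obtain ⟨QT⟩ : Nonempty (Sylow 7 (⊤ : Subgroup H)) := inferInstance
  obtain ⟨e, he6, he, hmod⟩ := key ⊤ (Nat.card H) htop
    (by rcases hH with h | h | h | h <;> rw [h] <;> norm_num)
    (by rcases hH with h | h | h | h <;> rw [h] <;> norm_num) QT
  have hle6 := Nat.le_of_dvd (by norm_num) he6
  rcases hH with h | h | h | h
  · rw [h] at he; interval_cases e <;> omega
  · rw [h] at he; interval_cases e <;> omega
  · rw [h] at he; interval_cases e <;> omega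
  -- order 112: pass to the even permutations
  let sg : H →* ℤˣ := Equiv.Perm.sign.comp (MulAction.toPermHom H X)
  have h56 : Nat.card sg.ker = 56 := by
    have e1 := Subgroup.card_mul_index sg.ker
    have e2 : sg.ker.index ≤ 2 := by
      rw [Subgroup.index_ker]
      exact (Finite.card_subtype_le _).trans (by simp)
    have e3 : Nat.card sg.ker ∣ 2520 := by
      let f : sg.ker →* alternatingGroup X :=
        ((MulAction.toPermHom H X).comp sg.ker.subtype).codRestrict _ fun a => a.2
      have hinj : Function.Injective f := fun a b hab => by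
        apply Subtype.ext
        exact MulAction.toPerm_injective (congrArg Subtype.val hab)
      have := Subgroup.card_dvd_of_injective f hinj
      have hA : Nat.card (alternatingGroup X) = 2520 := by
        have : Nontrivial X := Finite.one_lt_card_iff_nontrivial.mp (by rw [hX]; norm_num)
        have h2 := two_mul_card_alternatingGroup (α := X)
        rw [Fintype.card_perm, ← Nat.card_eq_fintype_card, ← Nat.card_eq_fintype_card, hX] at h2
        rw [show Nat.factorial 7 = 5040 by rfl] at h2
        omega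
      rwa [hA] at this
    rw [h] at e1
    obtain ⟨q, hq⟩ := e3
    have := Nat.card_pos (α := sg.ker)
    interval_cases hi : sg.ker.index
    · omega
    · have h112 : Nat.card sg.ker = 112 := by omega
      rw [h112] at hq
      omega
    · omega
  obtain ⟨Q⟩ : Nonempty (Sylow 7 sg.ker) := inferInstance
  obtain ⟨e', he6', he', hmod'⟩ := key sg.ker 56 h56 (by norm_num) (by norm_num) Q
  have hle6' := Nat.le_of_dvd (by norm_num) he6'
  have he1 : e' = 1 := by interval_cases e' <;> omega
  subst he1
  have hn8 : Nat.card (Sylow 7 sg.ker) = 8 := by omega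
  obtain ⟨k, hk⟩ := IsPGroup.iff_card.mp Q.isPGroup'
  have hN7 : Nat.card (Subgroup.normalizer (Q : Set sg.ker)) = 7 := by
    have h1 := Subgroup.card_mul_index (Subgroup.normalizer (Q : Set sg.ker))
    rw [← Q.card_eq_index_normalizer, hn8, h56] at h1
    omega
  have hQ7 : Nat.card (Q : Subgroup sg.ker) = 7 := by
    have hd : 7 ∣ Nat.card (Q : Subgroup sg.ker) := Q.dvd_card_of_dvd_card (by rw [h56]; norm_num)
    exact Nat.dvd_antisymm ((Subgroup.card_dvd_of_le Subgroup.le_normalizer).trans (dvd_of_eq hN7)) hd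
  have : IsCyclic (Q : Subgroup sg.ker) := isCyclic_of_prime_card hQ7
  have hNC : Subgroup.normalizer (Q : Set sg.ker) ≤ Subgroup.centralizer (Q : Set sg.ker) := by
    have heq : (Q : Subgroup sg.ker) = Subgroup.normalizer (Q : Set sg.ker) :=
      Subgroup.eq_of_le_of_card_ge Subgroup.le_normalizer (by rw [hN7, hQ7])
    intro a ha
    rw [← heq] at ha
    rw [Subgroup.mem_centralizer_iff]
    intro b hb
    obtain ⟨g, hg⟩ := IsCyclic.exists_generator (α := (Q : Subgroup sg.ker))
    obtain ⟨i, hi⟩ := Subgroup.mem_zpowers_iff.mp (hg ⟨a, ha⟩)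
    obtain ⟨j, hj⟩ := Subgroup.mem_zpowers_iff.mp (hg ⟨b, hb⟩)
    have hcm : (⟨b, hb⟩ : (Q : Subgroup sg.ker)) * ⟨a, ha⟩ = ⟨a, ha⟩ * ⟨b, hb⟩ := by
      rw [← hi, ← hj, ← zpow_add, add_comm, zpow_add]
    exact congrArg Subtype.val hcm
  have hc := MonoidHom.ker_transferSylow_isComplement' Q hNC
  set R := (MonoidHom.transferSylow Q hNC).ker with hR
  have hR8 : Nat.card R = 8 := by
    have := hc.card_mul
    rw [hQ7, h56] at this
    omega
  have : Fact (Nat.Prime 2) := ⟨Nat.prime_two⟩
  have hRp : IsPGroup 2 R := IsPGroup.of_card (n := 3) (by rw [hR8]; norm_num)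
  obtain ⟨x₀, hx₀⟩ := hRp.nonempty_fixed_point_of_prime_not_dvd_card X (by rw [hX]; norm_num)
  obtain ⟨htr, -⟩ := normalizer_seven (H := sg.ker) hX (Q : Subgroup sg.ker) hQ7
  have hbot : R = ⊥ := by
    rw [eq_bot_iff]
    intro r hr
    rw [Subgroup.mem_bot]
    apply FaithfulSMul.eq_of_smul_eq_smul (α := X)
    intro z
    obtain ⟨q, rfl⟩ := MulAction.exists_smul_eq (Q : Subgroup sg.ker) x₀ z
    have hr' : (q : sg.ker)⁻¹ * r * q ∈ R := by
      simpa using (inferInstance : R.Normal).conj_mem r hr (q : sg.ker)⁻¹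
    have := hx₀ ⟨_, hr'⟩
    change ((q : sg.ker)⁻¹ * r * q) • x₀ = x₀ at this
    rw [mul_smul, mul_smul, inv_smul_eq_iff] at this
    rw [one_smul]
    exact this
  rw [hbot, Subgroup.card_bot] at hR8
  omega

end Cfsg.Agent.SylowNum
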