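import Cfsg.Agent.SylowNum.Small
import Mathlib.GroupTheory.Transfer
import Mathlib.GroupTheory.Perm.Cycle.Type

/-!
# Elementary non-simplicity criteria
-/

set_option autoImplicit false

namespace Cfsg.Agent.SylowNum

open scoped Pointwise
open MulAction

variable {S : Type*} [Group S] [Finite S]

/-- Burnside: a simple non-commutative group has no Sylow subgroup central in its normalizer. -/
theorem not_normalizer_le_centralizer [IsSimpleGroup S] (hS : ¬ IsMulCommutative S) {p : ℕ}
    [hp : Fact p.Prime] (hpS : p ∣ Nat.card S) (P : Sylow p S) :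
    ¬ Subgroup.normalizer (P : Set S) ≤ Subgroup.centralizer (P : Set S) := by
  intro h
  have hc := MonoidHom.ker_transferSylow_isComplement' P h
  set K := (MonoidHom.transferSylow P h).ker with hK
  have hKn : K.Normal := inferInstance
  rcases hKn.eq_bot_or_eq_top with h1 | h1
  · rw [h1, Subgroup.isComplement'_bot_left] at hc
    exact P.ne_bot_of_dvd_card hpS (normal_pGroup_eq_bot hS _ (hc ▸ inferInstance) P.isPGroup')
  · rw [h1, Subgroup.isComplement'_top_left] at hc
    exact P.ne_bot_of_dvd_card hpS hc

/-- A Sylow subgroup for the smallest prime of a simple group is not cyclic. -/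
theorem not_isCyclic_sylow_minFac [IsSimpleGroup S] (hS : ¬ IsMulCommutative S) {p : ℕ}
    [hp : Fact p.Prime] (hmin : (Nat.card S).minFac = p) (P : Sylow p S) : ¬ IsCyclic P := fun h =>
  not_normalizer_le_centralizer hS (hmin ▸ Nat.minFac_dvd _) P (h.normalizer_le_centralizer hmin)

/-- A simple non-commutative group consists of even permutations of any finite set it acts on. -/
theorem sign_toPerm_eq_one [IsSimpleGroup S] (hS : ¬ IsMulCommutative S) {X : Type*} [Fintype X]
    [DecidableEq X] [MulAction S X] (s : S) : Equiv.Perm.sign (MulAction.toPerm s : Equiv.Perm X) = 1 := by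
  let f : S →* ℤˣ := Equiv.Perm.sign.comp (MulAction.toPermHom S X)
  rcases (inferInstance : f.ker.Normal).eq_bot_or_eq_top with h | h
  · exfalso
    apply hS
    refine ⟨⟨fun a b => (f.ker_eq_bot_iff.mp h) ?_⟩⟩
    rw [map_mul, map_mul, mul_comm]
  · exact (h ▸ Subgroup.mem_top s : s ∈ f.ker)

/-- A simple group acts faithfully on its Sylow `p`-subgroups when there are several. -/
theorem smul_sylow_injective [IsSimpleGroup S] {p : ℕ} [Fact p.Prime]
    (hn : 1 < Nat.card (Sylow p S)) {s : S} (hs : ∀ Q : Sylow p S, s • Q = Q) : s = 1 := by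
  let f := MulAction.toPermHom S (Sylow p S)
  have hsk : s ∈ f.ker := Equiv.ext hs
  rcases (inferInstance : f.ker.Normal).eq_bot_or_eq_top with h | h
  · rwa [h, Subgroup.mem_bot] at hsk
  · exfalso
    have : Subsingleton (Sylow p S) := ⟨fun a b => by
      obtain ⟨g, hg⟩ := MulAction.exists_smul_eq S a b
      rw [← hg]
      exact (Equiv.ext_iff.mp (show g ∈ f.ker from h ▸ Subgroup.mem_top g) a).symm⟩
    have := Finite.card_le_one_iff_subsingleton.mpr this
    omega

/-- An element of order dividing the prime `q` normalizing `M` centralizes it if no proper divisor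
of the order of `M` is congruent to it modulo `q`. -/
theorem conj_trivial_of_modEq {q : ℕ} [hq : Fact q.Prime] (M : Subgroup S) {y : S}
    (hy : y ∈ Subgroup.normalizer (M : Set S)) (hyq : y ^ q = 1)
    (hmod : ∀ d, d ∣ Nat.card M → d ≡ Nat.card M [MOD q] → d = Nat.card M) :
    y ∈ Subgroup.centralizer (M : Set S) := by
  classical
  have := Fintype.ofFinite M
  let σ : Equiv.Perm M :=
    { toFun := fun m => ⟨y * m * y⁻¹, (Subgroup.mem_normalizer_iff.mp hy m).mp m.2⟩
      invFun := fun m => ⟨y⁻¹ * m * y, by
        simpa using (Subgroup.mem_normalizer_iff.mp (inv_mem hy) m).mp m.2⟩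
      left_inv := fun m => Subtype.ext (by simp [mul_assoc])
      right_inv := fun m => Subtype.ext (by simp [mul_assoc]) }
  have hpow : ∀ (n : ℕ) (m : M), ((σ ^ n) m : S) = y ^ n * m * (y ^ n)⁻¹ := by
    intro n
    induction n with
    | zero => intro m; simp
    | succ n ih =>
      intro m
      rw [pow_succ' σ, Equiv.Perm.mul_apply]
      change y * ((σ ^ n) m : S) * y⁻¹ = _
      rw [ih, pow_succ' y, mul_inv_rev]; group
  have hσ : σ ^ q ^ 1 = 1 := by
    ext m
    rw [pow_one, hpow, hyq]; simp
  have hmodσ := Equiv.Perm.card_compl_support_modEq hσ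
  set F := (M ⊓ Subgroup.centralizer ({y} : Set S) : Subgroup S) with hF
  have hFc : σ.supportᶜ.card = Nat.card F := by
    rw [← Nat.card_congr (Subgroup.subgroupOfEquivOfLe (inf_le_left : F ≤ M)).toEquiv,
      ← Nat.card_eq_finsetCard]
    apply Nat.card_congr
    refine Equiv.subtypeEquivRight fun m => ?_
    rw [Finset.mem_compl, Equiv.Perm.notMem_support, Subgroup.mem_subgroupOf, Subgroup.mem_inf,
      Subgroup.mem_centralizer_singleton_iff, Subtype.ext_iff]
    change y * m * y⁻¹ = m ↔ (m : S) ∈ M ∧ (m : S) * y = y * m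
    constructor
    · intro h
      refine ⟨m.2, ?_⟩
      nth_rw 1 [← h]
      group
    · intro h
      rw [← h.2]; group
  have hd := hmod (Nat.card F) (Subgroup.card_dvd_of_le inf_le_left)
    (hFc ▸ (hmodσ.trans (by rw [Nat.card_eq_fintype_card])))
  have hFM : F = M := Subgroup.eq_of_le_of_card_ge inf_le_left hd.ge
  rw [Subgroup.mem_centralizer_iff]
  intro m hm
  have : m ∈ F := hFM.symm ▸ hm
  exact Subgroup.mem_centralizer_singleton_iff.mp this.2

end Cfsg.Agent.SylowNum
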