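import Cfsg.Agent.SylowNum.Formula
import Mathlib.GroupTheory.Solvable
import Mathlib.Data.Nat.Factorization.Basic
import Mathlib.Algebra.IsPrimePow

/-!
# Sylow numbers are products of prime powers and Sylow numbers of simple groups
-/

set_option autoImplicit false

namespace Cfsg.Agent.SylowNum

open scoped Pointwise
open MulAction

universe u

variable {G : Type u} [Group G] [Finite G] {p : ℕ} [hp : Fact p.Prime]

theorem normalizer_mono_conj {K : Subgroup G} {x : G} (h : x ∈ Subgroup.normalizer (K : Set G))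
    {k : G} (hk : k ∈ K) : x * k * x⁻¹ ∈ K :=
  (Subgroup.mem_normalizer_iff.mp h k).mp hk

/-- A `p`-group normalizing a `p'`-group normalizes one of its Sylow `l`-subgroups. -/
theorem exists_sylow_normalized (P K : Subgroup G) (hP : IsPGroup p P)
    (hPK : P ≤ Subgroup.normalizer (K : Set G)) (hK : ¬ p ∣ Nat.card K) (l : ℕ) [Fact l.Prime] :
    ∃ L : Sylow l K, P ≤ Subgroup.normalizer (((L : Subgroup K).map K.subtype : Subgroup G) : Set G) := by
  let : MulDistribMulAction P K :=
    { smul := fun y k => ⟨y * k * (y : G)⁻¹, normalizer_mono_conj (hPK y.2) k.2⟩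
      one_smul := fun k => Subtype.ext (by
        change ((1 : P) : G) * k * ((1 : P) : G)⁻¹ = k
        simp)
      mul_smul := fun x y k => Subtype.ext (by
        change ((x * y : P) : G) * k * ((x * y : P) : G)⁻¹ = x * (y * k * (y : G)⁻¹) * (x : G)⁻¹
        simp [mul_assoc])
      smul_mul := fun y a b => Subtype.ext (by
        change (y : G) * ((a * b : K) : G) * (y : G)⁻¹ = y * a * (y : G)⁻¹ * (y * b * (y : G)⁻¹)
        simp [mul_assoc])
      smul_one := fun y => Subtype.ext (by
        change (y : G) * ((1 : K) : G) * (y : G)⁻¹ = 1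
        simp) }
  have hn : ¬ p ∣ Nat.card (Sylow l K) := by
    obtain ⟨L⟩ : Nonempty (Sylow l K) := inferInstance
    exact fun hd => hK (hd.trans ((Sylow.card_dvd_index L).trans (Subgroup.index_dvd_card _)))
  obtain ⟨L, hL⟩ := hP.nonempty_fixed_point_of_prime_not_dvd_card (Sylow l K) hn
  refine ⟨L, fun y hy => ?_⟩
  have h1 : ∀ z : P, z • (L : Subgroup K) = L := fun z => congrArg Sylow.toSubgroup (hL z)
  rw [Subgroup.mem_normalizer_iff_map_conj_eq]
  refine Subgroup.eq_of_le_of_card_ge ?_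
    (le_of_eq (Subgroup.card_map_of_injective (MulAut.conj y).injective).symm)
  rintro _ ⟨_, ⟨k, hk, rfl⟩, rfl⟩
  refine ⟨(⟨y, hy⟩ : P) • k, ?_, rfl⟩
  rw [SetLike.mem_coe, ← h1 ⟨y, hy⟩]
  exact Subgroup.smul_mem_pointwise_smul k _ _ hk

/-- Coprime action: every invariant `l`-subgroup lies in an invariant Sylow `l`-subgroup. -/
theorem exists_le_invariant_sylow (P K L₀ : Subgroup G) (hP : IsPGroup p P)
    (hPK : P ≤ Subgroup.normalizer (K : Set G)) (hK : ¬ p ∣ Nat.card K) (l : ℕ) [hl : Fact l.Prime]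
    (hL₀ : L₀ ≤ K) (hL₀l : IsPGroup l L₀) (hPL₀ : P ≤ Subgroup.normalizer (L₀ : Set G)) :
    ∃ L : Subgroup G, L₀ ≤ L ∧ L ≤ K ∧ P ≤ Subgroup.normalizer (L : Set G) ∧
      Nat.card L = l ^ (Nat.card K).factorization l := by
  obtain ⟨L, hL, hmax⟩ := (Set.toFinite {L : Subgroup G | L₀ ≤ L ∧ L ≤ K ∧ IsPGroup l L ∧
    P ≤ Subgroup.normalizer (L : Set G)}).exists_maximal ⟨L₀, le_rfl, hL₀, hL₀l, hPL₀⟩
  obtain ⟨h0, hLK, hLl, hPL⟩ := hL
  refine ⟨L, h0, hLK, hPL, ?_⟩
  set K' := K ⊓ Subgroup.normalizer (L : Set G) with hK'def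
  have hPK' : P ≤ Subgroup.normalizer (K' : Set G) := by
    intro y hy
    rw [Subgroup.mem_normalizer_iff_map_conj_eq]
    have e1 := Subgroup.mem_normalizer_iff_map_conj_eq.mp (hPK hy)
    refine Subgroup.eq_of_le_of_card_ge ?_
      (le_of_eq (Subgroup.card_map_of_injective (MulAut.conj y).injective).symm)
    rintro _ ⟨z, hz, rfl⟩
    obtain ⟨hz1, hz2⟩ := Subgroup.mem_inf.mp hz
    refine Subgroup.mem_inf.mpr ⟨normalizer_mono_conj (hPK hy) hz1, ?_⟩
    exact mul_mem (mul_mem (hPL hy) hz2) (inv_mem (hPL hy))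
  have hK' : ¬ p ∣ Nat.card K' := fun hd => hK (hd.trans (Subgroup.card_dvd_of_le inf_le_left))
  obtain ⟨L', hL'⟩ := exists_sylow_normalized P K' hP hPK' hK' l
  set L'' := (L' : Subgroup K').map K'.subtype with hL''
  have hLK' : L ≤ K' := le_inf hLK Subgroup.le_normalizer
  have hLL'' : L ≤ L'' := by
    intro x hx
    have : (L.subgroupOf K').Normal :=
      Subgroup.normal_subgroupOf_of_le_normalizer inf_le_right
    have : (L.comap K'.subtype).Normal := this
    have hle := (hLl.comap_of_injective K'.subtype K'.subtype_injective).le_sylow_of_normal L'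
    exact ⟨⟨x, hLK' hx⟩, hle (show (⟨x, hLK' hx⟩ : K') ∈ L.subgroupOf K' from hx), rfl⟩
  have hle'' : L'' ≤ L := hmax ⟨h0.trans hLL'',
    (Subgroup.map_subtype_le _).trans inf_le_left, L'.isPGroup'.map _, hL'⟩ hLL''
  -- `L` is a Sylow subgroup of `K`
  obtain ⟨R, hR⟩ := (hLl.comap_of_injective K.subtype K.subtype_injective).exists_le_sylow
  suffices h : L.subgroupOf K = R by
    rw [← R.card_eq_multiplicity, ← h, Nat.card_congr (Subgroup.subgroupOfEquivOfLe hLK).toEquiv]
  by_contra hne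
  have hlt : (L.subgroupOf K).subgroupOf (R : Subgroup K) < ⊤ := by
    rw [lt_top_iff_ne_top, ne_eq, Subgroup.subgroupOf_eq_top]
    exact fun h => hne (le_antisymm hR h)
  have : Group.IsNilpotent (R : Subgroup K) := R.isPGroup'.isNilpotent
  have hnc := (Group.normalizerCondition_of_isNilpotent (G := (R : Subgroup K)))
    ((L.subgroupOf K).subgroupOf (R : Subgroup K)) hlt
  apply hnc.not_ge
  intro x hx
  rw [Subgroup.mem_subgroupOf, Subgroup.mem_subgroupOf]
  set y : G := ((x : K) : G) with hy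
  have hyn : y ∈ Subgroup.normalizer (L : Set G) := by
    rw [Subgroup.mem_normalizer_iff_map_conj_eq]
    refine Subgroup.eq_of_le_of_card_ge ?_
      (le_of_eq (Subgroup.card_map_of_injective (MulAut.conj y).injective).symm)
    rintro _ ⟨z, hz, rfl⟩
    have hzR : (⟨z, hLK hz⟩ : K) ∈ (R : Subgroup K) := hR hz
    have := (Subgroup.mem_normalizer_iff.mp hx ⟨⟨z, hLK hz⟩, hzR⟩).mp (by
      simpa [Subgroup.mem_subgroupOf] using hz)
    simpa [Subgroup.mem_subgroupOf, hy] using this
  have hyK' : y ∈ K' := Subgroup.mem_inf.mpr ⟨(x : K).2, hyn⟩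
  -- the Sylow subgroup `L'` is contained in `L`, so it absorbs every `l`-element of its normalizer
  have hL'eq : (L' : Subgroup K') = L.subgroupOf K' := by
    apply le_antisymm
    · intro a ha
      exact hle'' (Subgroup.mem_map_of_mem _ ha)
    · intro a ha
      obtain ⟨b, hb, hba⟩ := hLL'' (Subgroup.mem_subgroupOf.mp ha)
      rwa [← Subtype.ext hba]
  have : (L.subgroupOf K').Normal := Subgroup.normal_subgroupOf_of_le_normalizer inf_le_right
  have hZ : IsPGroup l (Subgroup.zpowers (⟨y, hyK'⟩ : K')) := by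
    obtain ⟨k, hk⟩ := IsPGroup.iff_orderOf.mp R.isPGroup' x
    refine IsPGroup.of_card (n := k) ?_
    rw [Nat.card_zpowers, ← hk, ← Subgroup.orderOf_coe x, ← Subgroup.orderOf_coe (x : K),
      ← Subgroup.orderOf_coe (⟨y, hyK'⟩ : K')]
  obtain ⟨T, hT⟩ := hZ.exists_le_sylow
  have hsub : Subsingleton (Sylow l K') :=
    @Unique.instSubsingleton _ (L'.unique_of_normal (by rw [hL'eq]; infer_instance))
  have hyL : (⟨y, hyK'⟩ : K') ∈ (L' : Subgroup K') := by
    rw [Subsingleton.elim L' T]
    exact hT (Subgroup.mem_zpowers _)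
  rw [hL'eq] at hyL
  exact hyL

/-- The `l`-part of the Sylow number of a group with a normal `p`-complement is `1` mod `p`. -/
theorem pNilpotent_part_modEq (K : Subgroup G) [K.Normal] (P : Sylow p G)
    (hPK : (P : Subgroup G) ⊓ K = ⊥) (hsup : (P : Subgroup G) ⊔ K = ⊤) (l : ℕ) [hl : Fact l.Prime] :
    l ^ (Nat.card (Sylow p G)).factorization l ≡ 1 [MOD p] := by
  set C := K ⊓ Subgroup.centralizer (P : Set G) with hC
  have hNK : Subgroup.normalizer (P : Set G) ⊓ K = C := by
    apply le_antisymm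
    · intro k hk
      obtain ⟨hkN, hkK⟩ := Subgroup.mem_inf.mp hk
      refine Subgroup.mem_inf.mpr ⟨hkK, Subgroup.mem_centralizer_iff.mpr fun y hy => ?_⟩
      have h1 : k * y * k⁻¹ * y⁻¹ ∈ (P : Subgroup G) :=
        mul_mem (normalizer_mono_conj (K := (P : Subgroup G)) hkN hy) (inv_mem hy)
      have h2 : k * y * k⁻¹ * y⁻¹ ∈ K := by
        rw [show k * y * k⁻¹ * y⁻¹ = k * (y * k⁻¹ * y⁻¹) by group]
        exact mul_mem hkK (Subgroup.Normal.conj_mem inferInstance _ (inv_mem hkK) y)
      have h3 : k * y * k⁻¹ * y⁻¹ ∈ (P : Subgroup G) ⊓ K := ⟨h1, h2⟩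
      rw [hPK, Subgroup.mem_bot] at h3
      calc y * k = 1 * (y * k) := (one_mul _).symm
        _ = k * y * k⁻¹ * y⁻¹ * (y * k) := by rw [h3]
        _ = k * y := by group
    · rintro k hk
      obtain ⟨hkK, hkC⟩ := Subgroup.mem_inf.mp hk
      exact Subgroup.mem_inf.mpr ⟨Subgroup.centralizer_le_normalizer _ hkC, hkK⟩
  have hKp : ¬ p ∣ Nat.card K := by
    have h := relIndex_inf_normal_not_dvd K P
    rwa [hPK, Subgroup.relIndex_bot_left] at h
  have hn : Nat.card (Sylow p G) = C.relIndex K := by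
    rw [Sylow.card_eq_index_normalizer P, ← hNK, Subgroup.inf_relIndex_right,
      ← Subgroup.relIndex_top_right, normalizer_eq_stabilizer]
    refine relIndex_stabilizer_congr le_top P fun a _ => ?_
    have ha : a ∈ (K ⊔ (P : Subgroup G) : Subgroup G) := by rw [sup_comm, hsup]; trivial
    rw [← SetLike.mem_coe, Subgroup.normal_mul] at ha
    obtain ⟨k, hk, y, hy, rfl⟩ := Set.mem_mul.mp ha
    exact ⟨k, hk, by rw [mul_smul, Sylow.smul_eq_iff_mem_normalizer.mpr (Subgroup.le_normalizer hy)]⟩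
  obtain ⟨L₀'⟩ : Nonempty (Sylow l C) := inferInstance
  set L₀ := (L₀' : Subgroup C).map C.subtype with hL₀def
  have hL₀card : Nat.card L₀ = l ^ (Nat.card C).factorization l := by
    rw [hL₀def, Subgroup.card_map_of_injective C.subtype_injective, L₀'.card_eq_multiplicity]
  have hL₀C : L₀ ≤ C := Subgroup.map_subtype_le _
  have hPL₀ : (P : Subgroup G) ≤ Subgroup.normalizer (L₀ : Set G) := by
    intro y hy
    rw [Subgroup.mem_normalizer_iff]
    intro z
    have key : ∀ w ∈ L₀, y * w * y⁻¹ = w := fun w hw => by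
      rw [(Subgroup.mem_centralizer_iff.mp (Subgroup.mem_inf.mp (hL₀C hw)).2 y hy), mul_assoc,
        mul_inv_cancel, mul_one]
    constructor
    · intro hz; rwa [key z hz]
    · intro hz
      have h2 := key _ hz
      have : y * z * y⁻¹ = z := mul_left_cancel (mul_right_cancel h2)
      rwa [this] at hz
  obtain ⟨L, hL0, hLK, hPL, hLcard⟩ := exists_le_invariant_sylow (P : Subgroup G) K L₀ P.isPGroup'
    (by rw [Subgroup.normalizer_eq_top]; exact le_top) hKp l (hL₀C.trans inf_le_left)
    (L₀'.isPGroup'.map _) hPL₀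
  -- the count in `PL`
  set H := (P : Subgroup G) ⊔ L with hH
  have h1 : Nat.card (Sylow p H) = L₀.relIndex L := by
    rw [card_sylow_subgroup P (le_sup_left : (P : Subgroup G) ≤ H)]
    have h2 : (Subgroup.normalizer (P : Set G)).relIndex H =
        (Subgroup.normalizer (P : Set G)).relIndex L := by
      rw [normalizer_eq_stabilizer]
      refine relIndex_stabilizer_congr le_sup_right P fun a ha => ?_
      rw [sup_comm, ← SetLike.mem_coe,
        Subgroup.coe_mul_of_right_le_normalizer_left L (P : Subgroup G) hPL] at ha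
      obtain ⟨k, hk, y, hy, rfl⟩ := Set.mem_mul.mp ha
      exact ⟨k, hk, by rw [mul_smul, Sylow.smul_eq_iff_mem_normalizer.mpr (Subgroup.le_normalizer hy)]⟩
    rw [h2]
    have h3 : C ⊓ L = L₀ := by
      refine (Subgroup.eq_of_le_of_card_ge (le_inf hL₀C hL0) ?_).symm
      have hLl : IsPGroup l ↥(C ⊓ L) :=
        (IsPGroup.of_card hLcard).to_le inf_le_right
      obtain ⟨j, hj⟩ := IsPGroup.iff_card.mp hLl
      rw [hj, hL₀card]
      have hd : l ^ j ∣ Nat.card C := hj ▸ Subgroup.card_dvd_of_le inf_le_left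
      exact Nat.le_of_dvd (pow_pos hl.out.pos _) (pow_dvd_pow l
        ((hl.out.pow_dvd_iff_le_factorization Nat.card_pos.ne').mp hd))
    rw [← h3, Subgroup.inf_relIndex_right, ← hNK]
    rw [← Subgroup.inf_relIndex_right (Subgroup.normalizer (P : Set G) ⊓ K) L, inf_assoc,
      inf_eq_right.mpr hLK, Subgroup.inf_relIndex_right]
  have h4 : L₀.relIndex L = l ^ (Nat.card (Sylow p G)).factorization l := by
    have h5 := card_mul_relIndex hL0
    have h6 := card_mul_relIndex (inf_le_left : C ≤ K)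
    rw [← hn] at h6
    have h7 : (Nat.card K).factorization l =
        (Nat.card C).factorization l + (Nat.card (Sylow p G)).factorization l := by
      rw [← h6, Nat.factorization_mul Nat.card_pos.ne' Nat.card_pos.ne', Finsupp.add_apply]
    rw [hLcard, hL₀card, h7, pow_add] at h5
    exact Nat.eq_of_mul_eq_mul_left (pow_pos hl.out.pos _) h5
  rw [← h4, ← h1]
  exact card_sylow_modEq_one p H

/-- The admissible factors in M. Hall's theorem on Sylow numbers. -/
def IsHallFactor (p : ℕ) (G : Type u) [Group G] (m : ℕ) : Prop :=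
  (IsPrimePow m ∧ m % p = 1) ∨
    ∃ (S : Type u) (_ : Group S) (_ : Finite S), IsSimpleGroup S ∧ ¬ IsMulCommutative S ∧
      p ∣ Nat.card S ∧ (Group.IsSolvable G → Group.IsSolvable S) ∧ m = Nat.card (Sylow p S)

theorem card_sylow_eq_one_of_comm (h : IsMulCommutative G) : Nat.card (Sylow p G) = 1 := by
  obtain ⟨P⟩ : Nonempty (Sylow p G) := inferInstance
  have hP : (P : Subgroup G).Normal :=
    ⟨fun a ha g => by rwa [h.1.1 g a, mul_assoc, mul_inv_cancel, mul_one]⟩
  have : Subsingleton (Sylow p G) := @Unique.instSubsingleton _ (P.unique_of_normal hP)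
  exact Nat.card_eq_one_iff_unique.mpr ⟨this, ⟨P⟩⟩

theorem card_sylow_eq_one_of_not_dvd (h : ¬ p ∣ Nat.card G) : Nat.card (Sylow p G) = 1 := by
  obtain ⟨P⟩ : Nonempty (Sylow p G) := inferInstance
  have hP : (P : Subgroup G) = ⊥ := by
    obtain ⟨k, hk⟩ := IsPGroup.iff_card.mp P.isPGroup'
    rcases Nat.eq_zero_or_pos k with h0 | h0
    · exact Subgroup.card_eq_one.mp (by rw [hk, h0, pow_zero])
    · exact absurd ((dvd_pow_self p h0.ne').trans (hk ▸ Subgroup.card_subgroup_dvd_card _)) h
  have : Subsingleton (Sylow p G) :=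
    @Unique.instSubsingleton _ (P.unique_of_normal (by rw [hP]; infer_instance))
  exact Nat.card_eq_one_iff_unique.mpr ⟨this, ⟨P⟩⟩

theorem exists_factors_aux (p : ℕ) [hp : Fact p.Prime] (n : ℕ) :
    ∀ (G : Type u) [Group G] [Finite G], Nat.card G = n →
      ∃ l : List ℕ, l.prod = Nat.card (Sylow p G) ∧ ∀ m ∈ l, IsHallFactor p G m := by
  induction n using Nat.strong_induction_on with
  | _ n ih =>
    intro G _ _ hn
    by_cases h1 : Nat.card (Sylow p G) = 1
    · exact ⟨[], by rw [h1, List.prod_nil], by simp⟩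
    by_cases hsimple : IsSimpleGroup G
    · refine ⟨[Nat.card (Sylow p G)], by simp, fun m hm => Or.inr ⟨G, inferInstance, inferInstance,
        hsimple, fun hc => h1 (card_sylow_eq_one_of_comm hc), ?_, id, List.mem_singleton.mp hm⟩⟩
      by_contra hnd
      exact h1 (card_sylow_eq_one_of_not_dvd hnd)
    have : Nontrivial G := by
      by_contra hnt
      rw [not_nontrivial_iff_subsingleton] at hnt
      exact h1 (card_sylow_eq_one_of_comm ⟨⟨fun a b => Subsingleton.elim _ _⟩⟩)
    obtain ⟨K, hK, hKb, hKt⟩ : ∃ K : Subgroup G, K.Normal ∧ K ≠ ⊥ ∧ K ≠ ⊤ := by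
      by_contra hcon
      push Not at hcon
      exact hsimple ⟨fun H hH => (em (H = ⊥)).imp_right fun hb => hcon H hH hb⟩
    obtain ⟨P⟩ : Nonempty (Sylow p G) := inferInstance
    by_cases hnil : (P : Subgroup G) ⊓ K = ⊥ ∧ (P : Subgroup G) ⊔ K = ⊤
    · refine ⟨(Nat.card (Sylow p G)).primeFactors.toList.map
        (fun l => l ^ (Nat.card (Sylow p G)).factorization l), ?_, ?_⟩
      · rw [Finset.prod_map_toList]
        conv_rhs => rw [← Nat.prod_factorization_pow_eq_self (Nat.card_pos (α := Sylow p G)).ne']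
        rfl
      · intro m hm
        obtain ⟨l, hl, rfl⟩ := List.mem_map.mp hm
        rw [Finset.mem_toList, Nat.mem_primeFactors] at hl
        have : Fact l.Prime := ⟨hl.1⟩
        refine Or.inl ⟨hl.1.isPrimePow.pow ?_, ?_⟩
        · exact (hl.1.factorization_pos_of_dvd hl.2.2 hl.2.1).ne'
        · have h2 := pNilpotent_part_modEq K P hnil.1 hnil.2 l
          rwa [Nat.ModEq, Nat.mod_eq_of_lt hp.out.one_lt] at h2
    set D := (P : Subgroup G) ⊓ K with hD
    set N := ((P : Subgroup G) ⊔ K) ⊓ Subgroup.normalizer (D : Set G) with hN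
    have hDN : (D.subgroupOf N).Normal :=
      Subgroup.normal_subgroupOf_of_le_normalizer inf_le_right
    have hDle : D ≤ N := le_inf (inf_le_left.trans le_sup_left) Subgroup.le_normalizer
    have hlt : Nat.card (N ⧸ D.subgroupOf N) < n := by
      have e := Subgroup.card_eq_card_quotient_mul_card_subgroup (D.subgroupOf N)
      rw [Nat.card_congr (Subgroup.subgroupOfEquivOfLe hDle).toEquiv] at e
      have eN := Subgroup.card_le_card_group N
      rw [← hn]
      clear ih
      by_cases hb : D = ⊥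
      · have hM : (P : Subgroup G) ⊔ K ≠ ⊤ := fun h => hnil ⟨hb, h⟩
        have hne : N ≠ ⊤ := fun h => hM (top_le_iff.mp (h ▸ inf_le_left))
        have : Nat.card N ≠ Nat.card G := fun h => hne (Subgroup.eq_top_of_card_eq N h)
        have h5 : Nat.card D = 1 := by rw [hb, Subgroup.card_bot]
        rw [h5, mul_one] at e
        omega
      · have h2 : 1 < Nat.card D := D.one_lt_card_iff_ne_bot.mpr hb
        have h3 : 0 < Nat.card (N ⧸ D.subgroupOf N) := Nat.card_pos
        have h4 : Nat.card (N ⧸ D.subgroupOf N) * 2 ≤ Nat.card N :=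
          e ▸ Nat.mul_le_mul_left _ h2
        omega
    have hKcard : Nat.card K < n := by
      rw [← hn]
      exact lt_of_le_of_ne (Subgroup.card_le_card_group K)
        fun h => hKt (Subgroup.eq_top_of_card_eq K h)
    have hQcard : Nat.card (G ⧸ K) < n := by
      rw [← hn, Subgroup.card_eq_card_quotient_mul_card_subgroup K]
      exact lt_mul_of_one_lt_right Nat.card_pos (K.one_lt_card_iff_ne_bot.mpr hKb)
    obtain ⟨l₁, hl₁, hl₁'⟩ := ih _ hQcard (G ⧸ K) rfl
    obtain ⟨l₂, hl₂, hl₂'⟩ := ih _ hKcard K rfl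
    obtain ⟨l₃, hl₃, hl₃'⟩ := ih _ hlt (N ⧸ D.subgroupOf N) rfl
    refine ⟨l₁ ++ l₂ ++ l₃, ?_, ?_⟩
    · rw [List.prod_append, List.prod_append, hl₁, hl₂, hl₃, card_sylow_formula K P,
        card_sylow_quotient_of_pGroup (D.subgroupOf N)
          ((P.isPGroup'.to_le inf_le_left).comap_of_injective N.subtype N.subtype_injective)]
    · intro m hm
      rcases List.mem_append.mp hm with hm | hm
      · rcases List.mem_append.mp hm with hm | hm
        · refine (hl₁' m hm).imp_right ?_
          rintro ⟨S, i1, i2, a, b, c, d, e⟩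
          exact ⟨S, i1, i2, a, b, c, fun h => d inferInstance, e⟩
        · refine (hl₂' m hm).imp_right ?_
          rintro ⟨S, i1, i2, a, b, c, d, e⟩
          exact ⟨S, i1, i2, a, b, c, fun h => d inferInstance, e⟩
      · refine (hl₃' m hm).imp_right ?_
        rintro ⟨S, i1, i2, a, b, c, d, e⟩
        exact ⟨S, i1, i2, a, b, c, fun h => d inferInstance, e⟩

/-- M. Hall's theorem on the number of Sylow `p`-subgroups. -/
theorem exists_factors (G : Type u) [Group G] [Finite G] (p : ℕ) [Fact p.Prime] :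
    ∃ l : List ℕ, l.prod = Nat.card (Sylow p G) ∧ ∀ m ∈ l, IsHallFactor p G m :=
  exists_factors_aux p _ G rfl

/-- A number without admissible decomposition can only be a Sylow number via a simple group. -/
theorem exists_simple_of_card_sylow (G : Type u) [Group G] [Finite G] (p n : ℕ) [Fact p.Prime]
    (hG : Nat.card (Sylow p G) = n) (hn : 1 < n)
    (hdiv : ∀ d, d ∣ n → d % p = 1 → d = 1 ∨ d = n) (hpp : ¬ IsPrimePow n) :
    ∃ (S : Type u) (_ : Group S) (_ : Finite S), IsSimpleGroup S ∧ ¬ IsMulCommutative S ∧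
      p ∣ Nat.card S ∧ Nat.card (Sylow p S) = n := by
  obtain ⟨l, hl, hl'⟩ := exists_factors G p
  have hne : ∃ m ∈ l, m ≠ 1 := by
    by_contra hcon
    push Not at hcon
    rw [hG, List.prod_eq_one hcon] at hl
    omega
  obtain ⟨m, hm, hm1⟩ := hne
  have hd : m ∣ n := by rw [← hG, ← hl]; exact List.dvd_prod hm
  rcases hl' m hm with ⟨hmpp, hmod⟩ | ⟨S, i1, i2, hS, hSc, hSp, -, rfl⟩
  · rcases hdiv m hd hmod with h | h
    · exact absurd h hm1
    · exact absurd (h ▸ hmpp) hpp
  · have hmod : Nat.card (Sylow p S) % p = 1 :=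
      Eq.trans (card_sylow_modEq_one p S) (Nat.mod_eq_of_lt (Fact.out (p := p.Prime)).one_lt)
    rcases hdiv _ hd hmod with h | h
    · exact absurd h hm1
    · exact ⟨S, i1, i2, hS, hSc, hSp, h⟩

end Cfsg.Agent.SylowNum
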