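import Cfsg.Agent.SylowNum.Formula
import Mathlib.GroupTheory.Nilpotent

/-!
# Strongly closed subgroups with a short central series control fusion

If `B ≤ S` is strongly closed in a Sylow `p`-subgroup `S` with respect to `G`, and so is
`C ≤ B` with `[B,B] ≤ C` and `[C,B] = 1`, then `N_G(B)` controls fusion in `S`
(Alperin's argument).
-/

set_option autoImplicit false

namespace Cfsg.Agent.SylowNum

open scoped Pointwise

variable {G : Type*} [Group G] [Finite G] {p : ℕ} [hp : Fact p.Prime]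

omit [Finite G] in
theorem mem_conj_iff {D : Subgroup G} {g y : G} :
    y ∈ MulAut.conj g • D ↔ g⁻¹ * y * g ∈ D := by
  rw [Subgroup.mem_pointwise_smul_iff_inv_smul_mem, ← map_inv, MulAut.smul_def, MulAut.conj_apply,
    inv_inv]

omit [Finite G] in
theorem conj_mem_conj {D : Subgroup G} {g d : G} (hd : d ∈ D) : g * d * g⁻¹ ∈ MulAut.conj g • D := by
  rw [mem_conj_iff]; simpa [mul_assoc] using hd

omit [Finite G] in
theorem conj_le_iff {D K : Subgroup G} {g : G} :
    MulAut.conj g • D ≤ K ↔ ∀ d ∈ D, g * d * g⁻¹ ∈ K := by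
  constructor
  · exact fun h d hd => h (conj_mem_conj hd)
  · intro h y hy
    have := h _ (mem_conj_iff.mp hy)
    simpa [mul_assoc] using this

/-- A strongly closed pair `C ≤ B` inside a Sylow subgroup. -/
structure ClosedPair (S : Sylow p G) (B C : Subgroup G) : Prop where
  le : B ≤ (S : Subgroup G)
  normal : (S : Subgroup G) ≤ Subgroup.normalizer (B : Set G)
  sc_B : ∀ g : G, ∀ b ∈ B, g * b * g⁻¹ ∈ (S : Subgroup G) → g * b * g⁻¹ ∈ B
  sc_C : ∀ g : G, ∀ c ∈ C, g * c * g⁻¹ ∈ (S : Subgroup G) → g * c * g⁻¹ ∈ C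
  comm_B : ∀ a ∈ B, ∀ b ∈ B, a⁻¹ * (b * a * b⁻¹) ∈ C
  comm_C : ∀ c ∈ C, ∀ b ∈ B, b * c * b⁻¹ = c

omit [Finite G] in
/-- An element of order prime to `p` that moves `e` only inside a fixed `p`-group, fixes `e`. -/
theorem fix_of_coprime {E U : Subgroup G} (hU : IsPGroup p U) {m : G}
    (hm : ¬ p ∣ orderOf m) (hfix : ∀ u ∈ U, m * u * m⁻¹ = u) {e : G} (he : e ∈ E)
    (h : e⁻¹ * (m * e * m⁻¹) ∈ U) : m * e * m⁻¹ = e := by
  set u := e⁻¹ * (m * e * m⁻¹) with hu
  have hpow : ∀ n : ℕ, m ^ n * e * (m ^ n)⁻¹ = e * u ^ n := by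
    intro n
    induction n with
    | zero => simp
    | succ n ih =>
      have h1 : m * e * m⁻¹ = e * u := by rw [hu]; group
      have h2 : m * u ^ n * m⁻¹ = u ^ n := hfix _ (pow_mem h n)
      calc m ^ (n + 1) * e * (m ^ (n + 1))⁻¹ = m * (m ^ n * e * (m ^ n)⁻¹) * m⁻¹ := by
            rw [pow_succ']; group
        _ = m * (e * u ^ n) * m⁻¹ := by rw [ih]
        _ = (m * e * m⁻¹) * (m * u ^ n * m⁻¹) := by group
        _ = e * u ^ (n + 1) := by rw [h1, h2, pow_succ', mul_assoc]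
  have h0 := hpow (orderOf m)
  rw [pow_orderOf_eq_one, one_mul, inv_one, mul_one, left_eq_mul] at h0
  obtain ⟨k, hk⟩ := IsPGroup.iff_orderOf.mp hU ⟨u, h⟩
  rw [← Subgroup.orderOf_coe] at hk
  have hd : orderOf u ∣ orderOf m := orderOf_dvd_of_pow_eq_one h0
  have hu1 : orderOf u = 1 := by
    rcases Nat.eq_zero_or_pos k with h1 | h1
    · simpa [h1] using hk
    · exact absurd ((dvd_pow_self p h1.ne').trans (hk ▸ hd)) hm
  rw [orderOf_eq_one_iff] at hu1
  calc m * e * m⁻¹ = e * u := by rw [hu]; group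
    _ = e := by rw [hu1, mul_one]

variable {S : Sylow p G} {B C : Subgroup G}

omit [Finite G] hp in
theorem ClosedPair.conj_mem_B (h : ClosedPair S B C) {E : Subgroup G} (hE : E ≤ (S : Subgroup G))
    {n : G} (hn : n ∈ Subgroup.normalizer (E : Set G)) {x : G} (hx : x ∈ E ⊓ B) :
    n * x * n⁻¹ ∈ E ⊓ B :=
  have h1 : n * x * n⁻¹ ∈ E := (Subgroup.mem_normalizer_iff.mp hn x).mp hx.1
  ⟨h1, h.sc_B n x hx.2 (hE h1)⟩

omit [Finite G] hp in
theorem ClosedPair.conj_mem_C (h : ClosedPair S B C) {E : Subgroup G} (hE : E ≤ (S : Subgroup G))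
    {n : G} (hn : n ∈ Subgroup.normalizer (E : Set G)) {x : G} (hx : x ∈ E ⊓ C) :
    n * x * n⁻¹ ∈ E ⊓ C :=
  have h1 : n * x * n⁻¹ ∈ E := (Subgroup.mem_normalizer_iff.mp hn x).mp hx.1
  ⟨h1, h.sc_C n x hx.2 (hE h1)⟩

/-- The stabilizer in `N(E)` of the series `E ≥ E ∩ B ≥ E ∩ C ≥ 1`. -/
def ClosedPair.stab (h : ClosedPair S B C) (E : Subgroup G) (hE : E ≤ (S : Subgroup G)) :
    Subgroup (Subgroup.normalizer (E : Set G)) where
  carrier := {n | (∀ e ∈ E, e⁻¹ * ((n : G) * e * (n : G)⁻¹) ∈ E ⊓ B) ∧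
    (∀ e ∈ E ⊓ B, e⁻¹ * ((n : G) * e * (n : G)⁻¹) ∈ E ⊓ C) ∧
    ∀ e ∈ E ⊓ C, (n : G) * e * (n : G)⁻¹ = e}
  one_mem' := by
    refine ⟨fun e _ => ?_, fun e _ => ?_, fun e _ => by simp⟩ <;> simp [one_mem]
  mul_mem' := by
    rintro a b ⟨a1, a2, a3⟩ ⟨b1, b2, b3⟩
    refine ⟨fun e he => ?_, fun e he => ?_, fun e he => ?_⟩
    · have hb := (Subgroup.mem_normalizer_iff.mp b.2 e).mp he
      have := mul_mem (b1 e he) (a1 _ hb)
      simpa [mul_assoc] using this
    · have hb := h.conj_mem_B hE b.2 he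
      have := mul_mem (b2 e he) (a2 _ hb)
      simpa [mul_assoc] using this
    · calc ((a * b : _) : G) * e * ((a * b : _) : G)⁻¹
          = (a : G) * ((b : G) * e * (b : G)⁻¹) * (a : G)⁻¹ := by
            rw [Subgroup.coe_mul]; group
        _ = e := by rw [b3 e he, a3 e he]
  inv_mem' := by
    rintro a ⟨a1, a2, a3⟩
    refine ⟨fun e he => ?_, fun e he => ?_, fun e he => ?_⟩
    · have ha := (Subgroup.mem_normalizer_iff.mp (inv_mem a.2) e).mp he
      have := inv_mem (a1 _ ha)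
      simpa [mul_assoc] using this
    · have ha := h.conj_mem_B hE (inv_mem a.2) he
      have := inv_mem (a2 _ ha)
      simpa [mul_assoc] using this
    · rw [Subgroup.coe_inv]
      nth_rw 1 [← a3 e he]
      group

theorem ClosedPair.stab_normal (h : ClosedPair S B C) (E : Subgroup G) (hE : E ≤ (S : Subgroup G)) :
    (h.stab E hE).Normal := by
  refine ⟨fun a ha n => ?_⟩
  obtain ⟨a1, a2, a3⟩ := ha
  refine ⟨fun e he => ?_, fun e he => ?_, fun e he => ?_⟩
  · have hn := (Subgroup.mem_normalizer_iff.mp (inv_mem n.2) e).mp he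
    have := h.conj_mem_B hE n.2 (a1 _ hn)
    simpa [mul_assoc] using this
  · have hn := h.conj_mem_B hE (inv_mem n.2) he
    have := h.conj_mem_C hE n.2 (a2 _ hn)
    simpa [mul_assoc] using this
  · have hn := h.conj_mem_C hE (inv_mem n.2) he
    calc ((n * a * n⁻¹ : _) : G) * e * ((n * a * n⁻¹ : _) : G)⁻¹
        = (n : G) * ((a : G) * ((n : G)⁻¹ * e * (n : G)⁻¹⁻¹) * (a : G)⁻¹) * (n : G)⁻¹ := by
          rw [Subgroup.coe_mul, Subgroup.coe_mul, Subgroup.coe_inv]; group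
      _ = e := by rw [a3 _ hn]; group

omit [Finite G] in
theorem exists_pow_prime_part_pow {x : G} (hx : orderOf x ≠ 0) :
    ∃ k : ℕ, ¬ p ∣ orderOf (x ^ p ^ k) := by
  refine ⟨(orderOf x).factorization p, ?_⟩
  rw [orderOf_pow' _ (pow_pos hp.out.pos _).ne',
    Nat.gcd_eq_right (Nat.ordProj_dvd (orderOf x) p)]
  exact Nat.not_dvd_ordCompl hp.out hx

/-- The Alperin step: an element normalizing a fully normalized `E` agrees on `E` with an element
of `N(B)`. -/
theorem ClosedPair.step (h : ClosedPair S B C) (E : Subgroup G) (hE : E ≤ (S : Subgroup G))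
    (hfull : ¬ p ∣ ((S : Subgroup G).subgroupOf (Subgroup.normalizer (E : Set G))).index)
    (ih : ∀ D : Subgroup G, D ≤ (S : Subgroup G) → Nat.card E < Nat.card D → ∀ g : G,
      (∀ d ∈ D, g * d * g⁻¹ ∈ (S : Subgroup G)) →
        ∃ k ∈ Subgroup.normalizer (B : Set G), ∀ d ∈ D, k * d * k⁻¹ = g * d * g⁻¹)
    (n : G) (hn : n ∈ Subgroup.normalizer (E : Set G)) :
    ∃ k ∈ Subgroup.normalizer (B : Set G), ∀ e ∈ E, k * e * k⁻¹ = n * e * n⁻¹ := by
  classical
  set H := Subgroup.normalizer (E : Set G) with hH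
  let T : Sylow p H :=
    ((S.isPGroup').comap_of_injective H.subtype H.subtype_injective).toSylow hfull
  have hTmem : ∀ y : H, y ∈ (T : Subgroup H) ↔ (y : G) ∈ (S : Subgroup G) := fun y => Iff.rfl
  have hEH : E ≤ H := Subgroup.le_normalizer
  have : (E.subgroupOf H).Normal := Subgroup.normal_subgroupOf_of_le_normalizer le_rfl
  have := h.stab_normal E hE
  set K := h.stab E hE ⊔ E.subgroupOf H with hK
  have hKn : K.Normal := Subgroup.sup_normal _ _
  -- `K` modulo `C(E)` is a `p`-group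
  have hKp : ∀ x ∈ K, ∃ k : ℕ, ((x ^ p ^ k : H) : G) ∈ Subgroup.centralizer (E : Set G) := by
    intro x hx
    rw [hK, sup_comm, ← SetLike.mem_coe, Subgroup.normal_mul] at hx
    obtain ⟨e, he, m, hm, rfl⟩ := Set.mem_mul.mp hx
    obtain ⟨b, hb⟩ := (S.isPGroup'.to_le hE).comap_of_injective H.subtype H.subtype_injective ⟨e, he⟩
    have hb' : e ^ p ^ b = 1 := congrArg Subtype.val hb
    have hxM : (e * m) ^ p ^ b ∈ h.stab E hE := by
      rw [← QuotientGroup.eq_one_iff, QuotientGroup.mk_pow, QuotientGroup.mk_mul,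
        (QuotientGroup.eq_one_iff m).mpr hm, mul_one, ← QuotientGroup.mk_pow, hb']
      rfl
    set y := (e * m) ^ p ^ b with hy
    obtain ⟨a, ha⟩ := exists_pow_prime_part_pow (p := p) (orderOf_pos y).ne'
    refine ⟨b + a, ?_⟩
    rw [pow_add, pow_mul, ← hy]
    obtain ⟨h1, h2, h3⟩ := pow_mem hxM (p ^ a)
    have hord : ¬ p ∣ orderOf ((y ^ p ^ a : H) : G) := by
      rwa [Subgroup.orderOf_coe]
    have hC' : IsPGroup p (E ⊓ C : Subgroup G) := S.isPGroup'.to_le (inf_le_left.trans hE)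
    have hB' : IsPGroup p (E ⊓ B : Subgroup G) := S.isPGroup'.to_le (inf_le_left.trans hE)
    have s2 : ∀ u ∈ E ⊓ B, ((y ^ p ^ a : H) : G) * u * ((y ^ p ^ a : H) : G)⁻¹ = u := fun u hu =>
      fix_of_coprime hC' hord h3 hu (h2 u hu)
    rw [Subgroup.mem_centralizer_iff]
    intro u hu
    exact (mul_inv_eq_iff_eq_mul.mp (fix_of_coprime hB' hord s2 hu (h1 u hu))).symm
  set Q := (T : Subgroup H) ⊓ K with hQ
  let QK : Sylow p K := infSylow K T
  have hQKcoe : (QK : Subgroup K) = Q.subgroupOf K := rfl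
  -- `K = C(E) Q`
  have hKQ : ∀ x ∈ K, ∃ c : H, (c : G) ∈ Subgroup.centralizer (E : Set G) ∧ ∃ q ∈ Q, x = c * q := by
    intro x hx
    let Z := ((Subgroup.centralizer (E : Set G)).subgroupOf H).subgroupOf K
    have hZn : Z.Normal := by
      have h1 : ((Subgroup.centralizer (E : Set G)).subgroupOf H).Normal := by
        have := Subgroup.normalizerMonoidHom_ker E
        rw [← this]; infer_instance
      exact inferInstance
    have hP : IsPGroup p (K ⧸ Z) := by
      intro w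
      obtain ⟨⟨w, hw⟩, rfl⟩ := QuotientGroup.mk_surjective w
      obtain ⟨k, hk⟩ := hKp w hw
      exact ⟨k, by
        rw [← QuotientGroup.mk_pow, QuotientGroup.eq_one_iff]
        simpa [Z, Subgroup.mem_subgroupOf] using hk⟩
    have hsurj := QuotientGroup.mk'_surjective Z
    have htop : (QK.mapSurjective hsurj : Subgroup (K ⧸ Z)) = ⊤ :=
      ((QK.mapSurjective hsurj).is_maximal' (hP.to_subgroup ⊤) le_top).symm
    have hmem : QuotientGroup.mk' Z ⟨x, hx⟩ ∈ (QK : Subgroup K).map (QuotientGroup.mk' Z) := by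
      rw [← Sylow.coe_mapSurjective hsurj, htop]; exact Subgroup.mem_top _
    obtain ⟨q, hq, hqx⟩ := hmem
    obtain ⟨z, hz, hz'⟩ := (QuotientGroup.mk'_eq_mk' Z).mp hqx
    refine ⟨(q : H) * z * (q : H)⁻¹, ?_, q, hq, ?_⟩
    · have := hZn.conj_mem z hz q
      simpa [Z, Subgroup.mem_subgroupOf] using this
    · rw [inv_mul_cancel_right]
      exact (congrArg Subtype.val hz').symm
  by_cases hQE : Q ≤ E.subgroupOf H
  · -- then `B ≤ E`
    have hNB : ∀ b ∈ B, b ∈ H → b ∈ E := by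
      intro b hb hbH
      have hbM : (⟨b, hbH⟩ : H) ∈ h.stab E hE := by
        refine ⟨fun e he => ?_, fun e he => ?_, fun e he => h.comm_C e he.2 b hb⟩
        · have h1 : e⁻¹ * (b * e * b⁻¹) ∈ E :=
            mul_mem (inv_mem he) ((Subgroup.mem_normalizer_iff.mp hbH e).mp he)
          refine ⟨h1, ?_⟩
          have hei : e⁻¹ ∈ (S : Subgroup G) := Subgroup.inv_mem _ (hE he)
          have hc : e⁻¹ * b * e⁻¹⁻¹ ∈ B := (Subgroup.mem_normalizer_iff.mp (h.normal hei) b).mp hb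
          have := B.mul_mem hc (B.inv_mem hb)
          simpa [mul_assoc] using this
        · exact ⟨E.mul_mem (E.inv_mem he.1) ((Subgroup.mem_normalizer_iff.mp hbH e).mp he.1),
            h.comm_B e he.2 b hb⟩
      exact hQE (show (⟨b, hbH⟩ : H) ∈ Q from ⟨h.le hb, Subgroup.mem_sup_left hbM⟩)
    have hBE : B ≤ E := by
      by_contra hne
      set J := E ⊔ B with hJ
      have hJS : J ≤ (S : Subgroup G) := sup_le hE h.le
      have : Group.IsNilpotent J := (S.isPGroup'.to_le hJS).isNilpotent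
      have hlt : E.subgroupOf J < ⊤ := by
        rw [lt_top_iff_ne_top, ne_eq, Subgroup.subgroupOf_eq_top]
        exact fun hh => hne (le_sup_right.trans hh)
      refine (Group.normalizerCondition_of_isNilpotent (G := J) _ hlt).not_ge ?_
      intro y hy
      rw [← Subgroup.subgroupOf_normalizer_eq le_sup_left, Subgroup.mem_subgroupOf] at hy
      rw [Subgroup.mem_subgroupOf]
      have hyJ : (y : G) ∈ J := y.2
      have hyJ : (y : G) ∈ E ⊔ B := hyJ
      rw [← SetLike.mem_coe,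
        Subgroup.coe_mul_of_left_le_normalizer_right E B (hE.trans h.normal)] at hyJ
      obtain ⟨e, he, b, hb, heb⟩ := Set.mem_mul.mp hyJ
      have hbH : b ∈ H := by
        rw [show b = e⁻¹ * (y : G) by rw [← heb]; group]
        exact mul_mem (inv_mem (hEH he)) hy
      rw [← heb]
      exact mul_mem he (hNB b hb hbH)
    refine ⟨n, ?_, fun e _ => rfl⟩
    rw [Subgroup.mem_normalizer_iff_map_conj_eq]
    refine Subgroup.eq_of_le_of_card_ge ?_
      (le_of_eq (Subgroup.card_map_of_injective (MulAut.conj n).injective).symm)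
    rintro _ ⟨b, hb, rfl⟩
    exact h.sc_B n b hb (hE ((Subgroup.mem_normalizer_iff.mp hn b).mp (hBE hb)))
  · -- Frattini
    set n' : H := ⟨n, hn⟩ with hn'
    have hconj : ∀ q ∈ Q, n' * q * n'⁻¹ ∈ K := fun q hq => hKn.conj_mem q hq.2 n'
    have hle : MulAut.conj n' • Q ≤ K := conj_le_iff.mpr hconj
    have hQ2 : ∃ k ∈ K, MulAut.conj k • Q = MulAut.conj n' • Q := by
      have hcard : ¬ p ∣ ((MulAut.conj n' • Q).subgroupOf K).index := by
        have h2 := QK.not_dvd_index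
        rw [hQKcoe] at h2
        have e1 := Subgroup.card_mul_index (Q.subgroupOf K)
        have e2 := Subgroup.card_mul_index ((MulAut.conj n' • Q).subgroupOf K)
        rw [Nat.card_congr (Subgroup.subgroupOfEquivOfLe (inf_le_right : Q ≤ K)).toEquiv] at e1
        rw [Nat.card_congr (Subgroup.subgroupOfEquivOfLe hle).toEquiv,
          Nat.card_congr (Subgroup.equivSMul (MulAut.conj n') Q).toEquiv.symm, ← e1] at e2
        rwa [Nat.eq_of_mul_eq_mul_left Nat.card_pos e2]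
      have hpg : IsPGroup p ((MulAut.conj n' • Q).subgroupOf K) := by
        have h1 : IsPGroup p (MulAut.conj n' • Q : Subgroup H) :=
          (T.isPGroup'.to_le inf_le_left).map _
        exact h1.comap_of_injective K.subtype K.subtype_injective
      obtain ⟨k, hk⟩ := MulAction.exists_smul_eq K QK (hpg.toSylow hcard)
      refine ⟨k, k.2, ?_⟩
      have h1 := congrArg (fun R : Sylow p K => (R : Subgroup K).map K.subtype) hk
      simp only [Sylow.coe_subgroup_smul] at h1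
      rw [IsPGroup.toSylow_coe, Subgroup.subgroupOf_map_subtype, inf_eq_left.mpr hle] at h1
      rw [← h1]
      ext y
      constructor
      · intro hy
        rw [mem_conj_iff] at hy
        refine ⟨k * ⟨(k : H)⁻¹ * y * k, hy.2⟩ * k⁻¹, conj_mem_conj (hQKcoe.symm ▸ hy), ?_⟩
        simp [mul_assoc]
      · rintro ⟨w, hw, rfl⟩
        rw [SetLike.mem_coe, mem_conj_iff, hQKcoe, Subgroup.mem_subgroupOf] at hw
        rw [mem_conj_iff]
        simpa using hw
    obtain ⟨k, hk, hkQ⟩ := hQ2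
    set m := k⁻¹ * n' with hm
    have hmQ : ∀ q ∈ Q, m * q * m⁻¹ ∈ Q := by
      intro q hq
      have h1 : n' * q * n'⁻¹ ∈ MulAut.conj k • Q := by
        rw [hkQ]; exact conj_mem_conj hq
      rw [mem_conj_iff] at h1
      simpa [hm, mul_assoc] using h1
    have hEQ : ∀ e ∈ E, ∃ he : e ∈ H, (⟨e, he⟩ : H) ∈ Q := fun e he =>
      ⟨hEH he, hE he, Subgroup.mem_sup_right he⟩
    set Q' := Q.map H.subtype with hQ'
    have hQ'S : Q' ≤ (S : Subgroup G) := by
      rintro _ ⟨q, hq, rfl⟩; exact hq.1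
    have hlt : Nat.card E < Nat.card Q' := by
      rw [hQ', Subgroup.card_map_of_injective H.subtype_injective,
        ← Nat.card_congr (Subgroup.subgroupOfEquivOfLe hEH).toEquiv]
      apply lt_of_le_of_ne
      · exact Subgroup.card_le_of_le (fun e he => by
          obtain ⟨_, h'⟩ := hEQ _ he
          exact h')
      · intro hh
        exact hQE (ge_of_eq (Subgroup.eq_of_le_of_card_ge
          (fun e he => by obtain ⟨_, h'⟩ := hEQ _ he; exact h') hh.ge))
    obtain ⟨k', hk', hagree⟩ := ih Q' hQ'S hlt (m : G) (by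
      rintro _ ⟨q, hq, rfl⟩
      exact (hmQ q hq).1)
    obtain ⟨c, hc, q, hq, hkq⟩ := hKQ k hk
    refine ⟨(q : G) * k', mul_mem (h.normal hq.1) hk', fun e he => ?_⟩
    obtain ⟨heH, heQ⟩ := hEQ e he
    have h1 := hagree e ⟨⟨e, heH⟩, heQ, rfl⟩
    have hn2 : n = (c : G) * (q : G) * (m : G) := by
      have : n' = c * q * m := by rw [← hkq, hm]; group
      exact congrArg Subtype.val this
    have hme : (m : G) * e * (m : G)⁻¹ ∈ E := (Subgroup.mem_normalizer_iff.mp m.2 e).mp he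
    have hqme : (q : G) * ((m : G) * e * (m : G)⁻¹) * (q : G)⁻¹ ∈ E :=
      (Subgroup.mem_normalizer_iff.mp q.2 _).mp hme
    have hcc := Subgroup.mem_centralizer_iff.mp hc _ hqme
    calc (q : G) * k' * e * ((q : G) * k')⁻¹ = (q : G) * (k' * e * k'⁻¹) * (q : G)⁻¹ := by group
      _ = (q : G) * ((m : G) * e * (m : G)⁻¹) * (q : G)⁻¹ := by rw [h1]
      _ = (c : G) * ((q : G) * ((m : G) * e * (m : G)⁻¹) * (q : G)⁻¹) * (c : G)⁻¹ := by
          rw [← hcc, mul_inv_cancel_right]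
      _ = n * e * n⁻¹ := by rw [hn2]; group

theorem ClosedPair.control_aux (h : ClosedPair S B C) (j : ℕ) :
    ∀ D : Subgroup G, D ≤ (S : Subgroup G) → Nat.card G ≤ Nat.card D + j → ∀ g : G,
      (∀ d ∈ D, g * d * g⁻¹ ∈ (S : Subgroup G)) →
        ∃ k ∈ Subgroup.normalizer (B : Set G), ∀ d ∈ D, k * d * k⁻¹ = g * d * g⁻¹ := by
  induction j using Nat.strong_induction_on with
  | _ j ihj =>
  intro D hD hj g hg
  have ih : ∀ D' : Subgroup G, D' ≤ (S : Subgroup G) → Nat.card D < Nat.card D' → ∀ g : G,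
      (∀ d ∈ D', g * d * g⁻¹ ∈ (S : Subgroup G)) →
        ∃ k ∈ Subgroup.normalizer (B : Set G), ∀ d ∈ D', k * d * k⁻¹ = g * d * g⁻¹ := by
    intro D' hD' hlt
    have := Subgroup.card_le_card_group D'
    exact ihj (Nat.card G - Nat.card D') (by omega) D' hD' (by omega)
  rcases eq_or_ne D (S : Subgroup G) with rfl | hne
  · refine ⟨g, ?_, fun d _ => rfl⟩
    rw [Subgroup.mem_normalizer_iff_map_conj_eq]
    refine Subgroup.eq_of_le_of_card_ge ?_
      (le_of_eq (Subgroup.card_map_of_injective (MulAut.conj g).injective).symm)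
    rintro _ ⟨b, hb, rfl⟩
    exact h.sc_B g b hb (hg b (h.le hb))
  -- a fully normalised conjugate `E`
  obtain ⟨T⟩ : Nonempty (Sylow p (Subgroup.normalizer (D : Set G))) := inferInstance
  set HD := Subgroup.normalizer (D : Set G) with hHD
  obtain ⟨S', hS'⟩ := (T.isPGroup'.map HD.subtype).exists_le_sylow
  obtain ⟨k, hk⟩ := MulAction.exists_smul_eq G S' S
  have hkS : ∀ y ∈ (S' : Subgroup G), k * y * k⁻¹ ∈ (S : Subgroup G) := fun y hy => by
    rw [← hk, Sylow.coe_subgroup_smul]; exact conj_mem_conj hy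
  have hDT : ∀ d ∈ D, ∃ hd : d ∈ HD, (⟨d, hd⟩ : HD) ∈ (T : Subgroup HD) := by
    intro d hd
    have : (D.subgroupOf HD).Normal := Subgroup.normal_subgroupOf_of_le_normalizer le_rfl
    have : (Subgroup.comap HD.subtype D).Normal := this
    exact ⟨Subgroup.le_normalizer hd,
      ((S.isPGroup'.to_le hD).comap_of_injective HD.subtype HD.subtype_injective).le_sylow_of_normal
        T (show (⟨d, Subgroup.le_normalizer hd⟩ : HD) ∈ Subgroup.comap HD.subtype D from hd)⟩
  set E := MulAut.conj k • D with hE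
  have hES : E ≤ (S : Subgroup G) := conj_le_iff.mpr fun d hd => by
    obtain ⟨hd', hdT⟩ := hDT d hd
    exact hkS _ (hS' ⟨⟨d, hd'⟩, hdT, rfl⟩)
  have hcardE : Nat.card E = Nat.card D :=
    (Nat.card_congr (Subgroup.equivSMul (MulAut.conj k) D).toEquiv).symm
  set HE := Subgroup.normalizer (E : Set G) with hHE
  have hNE : ∀ y ∈ HD, k * y * k⁻¹ ∈ HE := by
    intro y hy
    rw [hHE, Subgroup.mem_normalizer_iff]
    intro z
    rw [hE, mem_conj_iff, mem_conj_iff,
      show k⁻¹ * (k * y * k⁻¹ * z * (k * y * k⁻¹)⁻¹) * k = y * (k⁻¹ * z * k) * y⁻¹ by group]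
    exact Subgroup.mem_normalizer_iff.mp hy _
  have hNE' : ∀ y ∈ HE, k⁻¹ * y * k ∈ HD := by
    intro y hy
    rw [hHD, Subgroup.mem_normalizer_iff]
    intro z
    have := Subgroup.mem_normalizer_iff.mp hy (k * z * k⁻¹)
    rw [hE, mem_conj_iff, mem_conj_iff] at this
    simpa [mul_assoc] using this
  let φ : HD ≃* HE :=
    { toFun := fun y => ⟨k * y * k⁻¹, hNE y y.2⟩
      invFun := fun y => ⟨k⁻¹ * y * k, hNE' y y.2⟩
      left_inv := fun y => Subtype.ext (by simp [mul_assoc])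
      right_inv := fun y => Subtype.ext (by simp [mul_assoc])
      map_mul' := fun y z => Subtype.ext (by simp [mul_assoc]) }
  have hfull : ¬ p ∣ ((S : Subgroup G).subgroupOf HE).index := by
    have hle : (T : Subgroup HD).map φ.toMonoidHom ≤ (S : Subgroup G).subgroupOf HE := by
      rintro _ ⟨y, hy, rfl⟩
      exact hkS _ (hS' ⟨y, hy, rfl⟩)
    intro hd
    refine T.not_dvd_index (hd.trans ?_)
    rw [← Subgroup.index_map_equiv (T : Subgroup HD) φ]
    exact Subgroup.index_dvd_of_le hle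
  let TE : Sylow p HE := ((S.isPGroup').comap_of_injective HE.subtype HE.subtype_injective).toSylow hfull
  -- move any conjugate of `D` to `E` keeping its normaliser inside `S`
  have toE : ∀ D₁ : Subgroup G, D₁ ≤ (S : Subgroup G) → ∀ k₀ : G, MulAut.conj k₀ • D₁ = E →
      D₁ ≠ (S : Subgroup G) →
      ∃ m : G, MulAut.conj m • D₁ = E ∧
        ∃ h₁ ∈ Subgroup.normalizer (B : Set G), ∀ d ∈ D₁, h₁ * d * h₁⁻¹ = m * d * m⁻¹ := by
    intro D₁ hD₁ k₀ hk₀ hne₁
    set N₁ := (S : Subgroup G) ⊓ Subgroup.normalizer (D₁ : Set G) with hN₁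
    have hcard₁ : Nat.card D₁ = Nat.card D := by
      rw [← hcardE, ← hk₀]
      exact Nat.card_congr (Subgroup.equivSMul (MulAut.conj k₀) D₁).toEquiv
    have hN₁E : MulAut.conj k₀ • N₁ ≤ HE := conj_le_iff.mpr fun y hy => by
      rw [hHE, Subgroup.mem_normalizer_iff]
      intro z
      rw [← hk₀, mem_conj_iff, mem_conj_iff,
        show k₀⁻¹ * (k₀ * y * k₀⁻¹ * z * (k₀ * y * k₀⁻¹)⁻¹) * k₀ = y * (k₀⁻¹ * z * k₀) * y⁻¹ by group]
      exact Subgroup.mem_normalizer_iff.mp hy.2 _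
    have hp₁ : IsPGroup p (MulAut.conj k₀ • N₁ : Subgroup G) := (S.isPGroup'.to_le inf_le_left).map _
    obtain ⟨R, hR⟩ := (hp₁.comap_of_injective HE.subtype HE.subtype_injective).exists_le_sylow
    obtain ⟨n, hn⟩ := MulAction.exists_smul_eq HE R TE
    refine ⟨(n : G) * k₀, ?_, ?_⟩
    · rw [map_mul, mul_smul, hk₀]
      have := Subgroup.mem_normalizer_iff_map_conj_eq.mp n.2
      exact this
    · have hlt : Nat.card D < Nat.card N₁ := by
        rw [← hcard₁]
        apply lt_of_le_of_ne (Subgroup.card_le_of_le (le_inf hD₁ Subgroup.le_normalizer))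
        intro hh
        have heq := Subgroup.eq_of_le_of_card_ge (le_inf hD₁ Subgroup.le_normalizer) hh.ge
        have : Group.IsNilpotent (S : Subgroup G) := S.isPGroup'.isNilpotent
        have hlt' : D₁.subgroupOf (S : Subgroup G) < ⊤ := by
          rw [lt_top_iff_ne_top, ne_eq, Subgroup.subgroupOf_eq_top]
          exact fun hh => hne₁ (le_antisymm hD₁ hh)
        refine (Group.normalizerCondition_of_isNilpotent (G := (S : Subgroup G)) _ hlt').not_ge ?_
        intro y hy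
        rw [← Subgroup.subgroupOf_normalizer_eq hD₁, Subgroup.mem_subgroupOf] at hy
        rw [Subgroup.mem_subgroupOf, heq]
        exact ⟨y.2, hy⟩
      obtain ⟨h₁, hh₁, hagree⟩ := ih N₁ inf_le_left hlt ((n : G) * k₀) (by
        intro y hy
        have hyR : (⟨k₀ * y * k₀⁻¹, hN₁E (conj_mem_conj hy)⟩ : HE) ∈ (R : Subgroup HE) :=
          hR (show (⟨k₀ * y * k₀⁻¹, hN₁E (conj_mem_conj hy)⟩ : HE) ∈
            Subgroup.comap HE.subtype (MulAut.conj k₀ • N₁) from conj_mem_conj hy)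
        have hmem := conj_mem_conj (g := n) hyR
        rw [← Sylow.coe_subgroup_smul, hn] at hmem
        have hmem' : ((n * ⟨k₀ * y * k₀⁻¹, hN₁E (conj_mem_conj hy)⟩ * n⁻¹ : HE) : G) ∈
            (S : Subgroup G) := hmem
        simpa [mul_assoc] using hmem')
      exact ⟨h₁, hh₁, fun d hd => hagree d ⟨hD₁ hd, Subgroup.le_normalizer hd⟩⟩
  set D' := MulAut.conj g • D with hD'
  have hD'S : D' ≤ (S : Subgroup G) := conj_le_iff.mpr hg
  have hD'ne : D' ≠ (S : Subgroup G) := by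
    intro hh
    apply hne
    refine Subgroup.eq_of_le_of_card_ge hD (le_of_eq ?_)
    rw [← hh]
    exact (Nat.card_congr (Subgroup.equivSMul (MulAut.conj g) D).toEquiv).symm
  obtain ⟨m, hm, h₁, hh₁, ha₁⟩ := toE D hD k hE.symm hne
  obtain ⟨m', hm', h₂, hh₂, ha₂⟩ := toE D' hD'S (k * g⁻¹)
    (by rw [hD', ← mul_smul, ← map_mul, inv_mul_cancel_right]) hD'ne
  have hn : m' * g * m⁻¹ ∈ HE := by
    rw [hHE, Subgroup.mem_normalizer_iff_map_conj_eq]
    change MulAut.conj (m' * g * m⁻¹) • E = E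
    conv_lhs => rw [← hm, ← mul_smul, ← map_mul, inv_mul_cancel_right, map_mul, mul_smul, ← hD']
    exact hm'
  obtain ⟨k₃, hk₃, ha₃⟩ := h.step E hES hfull
    (fun D₂ hD₂ hlt => ih D₂ hD₂ (hcardE ▸ hlt)) _ hn
  refine ⟨h₂⁻¹ * k₃ * h₁, mul_mem (mul_mem (inv_mem hh₂) hk₃) hh₁, fun d hd => ?_⟩
  have e1 : m * d * m⁻¹ ∈ E := hm ▸ conj_mem_conj hd
  have e2 := ha₂ _ (conj_mem_conj (g := g) hd)
  calc h₂⁻¹ * k₃ * h₁ * d * (h₂⁻¹ * k₃ * h₁)⁻¹
      = h₂⁻¹ * (k₃ * (h₁ * d * h₁⁻¹) * k₃⁻¹) * h₂ := by group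
    _ = h₂⁻¹ * (k₃ * (m * d * m⁻¹) * k₃⁻¹) * h₂ := by rw [ha₁ d hd]
    _ = h₂⁻¹ * (m' * (g * d * g⁻¹) * m'⁻¹) * h₂ := by rw [ha₃ _ e1]; group
    _ = h₂⁻¹ * (h₂ * (g * d * g⁻¹) * h₂⁻¹) * h₂ := by rw [e2]
    _ = g * d * g⁻¹ := by group

/-- The normalizer of `B` controls fusion in `S`. -/
theorem ClosedPair.control (h : ClosedPair S B C) (D : Subgroup G) (hD : D ≤ (S : Subgroup G))
    (g : G) (hg : ∀ d ∈ D, g * d * g⁻¹ ∈ (S : Subgroup G)) :
    ∃ k ∈ Subgroup.normalizer (B : Set G), ∀ d ∈ D, k * d * k⁻¹ = g * d * g⁻¹ :=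
  h.control_aux (Nat.card G) D hD (Nat.le_add_left _ _) g hg

end Cfsg.Agent.SylowNum
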