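import Mathlib.GroupTheory.Sylow
import Mathlib.GroupTheory.PGroup
import Mathlib.GroupTheory.Index
import Mathlib.GroupTheory.Nilpotent
import Mathlib.GroupTheory.Subgroup.Simple
import Mathlib.GroupTheory.GroupAction.Quotient
import Mathlib.GroupTheory.IndexNormal

/-!
# Groups with fewer than `p²` Sylow `p`-subgroups (Brauer–Reynolds)
-/

set_option autoImplicit false

namespace Cfsg.Agent.SylowNum

open scoped Pointwise
open MulAction

variable {G : Type*} [Group G] [Finite G] {p : ℕ} [hp : Fact p.Prime]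

theorem stabilizer_sylow_eq (P Q : Sylow p G) :
    stabilizer (P : Subgroup G) Q = ((P : Subgroup G) ⊓ (Q : Subgroup G)).subgroupOf P := by
  ext x
  rw [mem_stabilizer_iff, Subgroup.mem_subgroupOf]
  change (x : G) • Q = Q ↔ _
  rw [Sylow.smul_eq_iff_mem_normalizer, ← P.isPGroup'.inf_normalizer_sylow Q]
  simp

/-- The set of Sylow subgroups other than `P` meeting `P` in `D`. -/
def meetSet (P : Sylow p G) (D : Subgroup G) : Set (Sylow p G) :=
  {R | R ≠ P ∧ (P : Subgroup G) ⊓ (R : Subgroup G) = D}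

/-- The intersections of `P` with the other Sylow subgroups. -/
def meets (P : Sylow p G) : Set (Subgroup G) :=
  (fun R : Sylow p G => (P : Subgroup G) ⊓ (R : Subgroup G)) '' {R | R ≠ P}

theorem sylow_eq_of_le {P Q : Sylow p G} (h : (P : Subgroup G) ≤ Q) : P = Q :=
  (Sylow.ext (P.is_maximal' Q.isPGroup' h)).symm

theorem card_mul_relIndex {H K : Subgroup G} (h : H ≤ K) :
    Nat.card H * H.relIndex K = Nat.card K := by
  have h1 := Subgroup.relIndex_mul_relIndex ⊥ H K bot_le h
  rwa [Subgroup.relIndex_bot_left, Subgroup.relIndex_bot_left] at h1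

theorem relIndex_inter (hn : Nat.card (Sylow p G) < p ^ 2) (P Q : Sylow p G) (hne : Q ≠ P) :
    ((P : Subgroup G) ⊓ Q).relIndex P = p ∧ Nat.card (orbit (P : Subgroup G) Q) = p := by
  have hidx : ((P : Subgroup G) ⊓ Q).relIndex P = Nat.card (orbit (P : Subgroup G) Q) := by
    rw [Subgroup.relIndex, ← stabilizer_sylow_eq, index_stabilizer, Nat.card_coe_set_eq]
  obtain ⟨k, hk⟩ := P.isPGroup'.card_orbit Q
  have hle : Nat.card (orbit (P : Subgroup G) Q) < p ^ 2 :=
    lt_of_le_of_lt (Finite.card_subtype_le _) hn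
  have hk2 : k < 2 := by
    rw [hk] at hle
    exact (Nat.pow_lt_pow_iff_right hp.out.one_lt).mp hle
  have hk0 : k ≠ 0 := by
    intro h0
    rw [h0, pow_zero, ← hidx, Subgroup.relIndex_eq_one] at hk
    exact hne (sylow_eq_of_le (hk.trans inf_le_right)).symm
  have : k = 1 := by omega
  subst this
  rw [pow_one] at hk
  exact ⟨hidx.trans hk, hk⟩

theorem conj_inter_eq (hn : Nat.card (Sylow p G) < p ^ 2) (P Q : Sylow p G) (hne : Q ≠ P)
    {x : G} (hx : x ∈ (P : Subgroup G)) :
    (P : Subgroup G) ⊓ ((x • Q : Sylow p G) : Subgroup G) = (P : Subgroup G) ⊓ Q := by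
  have hP : MulAut.conj x • (P : Subgroup G) = P := Subgroup.conj_smul_eq_self_of_mem hx
  have hnorm : (((P : Subgroup G) ⊓ Q).subgroupOf P).Normal := by
    apply Subgroup.normal_of_index_eq_minFac_card
    rw [← Subgroup.relIndex, (relIndex_inter hn P Q hne).1]
    obtain ⟨k, hk⟩ := IsPGroup.iff_card.mp P.isPGroup'
    have hk0 : k ≠ 0 := by
      intro h0
      have h1 := (relIndex_inter hn P Q hne).1
      have h2 : Nat.card (P : Subgroup G) = 1 := by simpa [h0] using hk
      have h3 := Subgroup.index_dvd_card (((P : Subgroup G) ⊓ Q).subgroupOf P)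
      rw [← Subgroup.relIndex, h1, h2, Nat.dvd_one] at h3
      exact hp.out.ne_one h3
    rw [hk, hp.out.pow_minFac hk0]
  rw [Sylow.coe_subgroup_smul]
  conv_lhs => rw [← hP, ← Subgroup.smul_inf]
  ext y
  rw [Subgroup.mem_pointwise_smul_iff_inv_smul_mem, ← map_inv, MulAut.smul_def,
    MulAut.conj_apply, inv_inv]
  constructor
  · intro h
    have h2 := Subgroup.mem_subgroupOf.mp
      (hnorm.conj_mem ⟨_, (Subgroup.mem_inf.mp h).1⟩ (Subgroup.mem_subgroupOf.mpr h) ⟨x, hx⟩)
    simpa only [Subgroup.coe_mul, Subgroup.coe_inv, mul_assoc, mul_inv_cancel, mul_one,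
      mul_inv_cancel_left] using h2
  · intro h
    have h2 := Subgroup.mem_subgroupOf.mp
      (hnorm.conj_mem ⟨y, (Subgroup.mem_inf.mp h).1⟩ (Subgroup.mem_subgroupOf.mpr h)
        ⟨x⁻¹, inv_mem hx⟩)
    simpa only [Subgroup.coe_mul, Subgroup.coe_inv, inv_inv] using h2

theorem p_le_card_meetSet (hn : Nat.card (Sylow p G) < p ^ 2) (P Q : Sylow p G) (hne : Q ≠ P) :
    p ≤ Nat.card (meetSet P ((P : Subgroup G) ⊓ Q)) := by
  refine le_of_eq_of_le (relIndex_inter hn P Q hne).2.symm ?_
  apply Nat.card_mono (Set.toFinite _)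
  rintro R ⟨⟨x, hx⟩, rfl⟩
  refine ⟨?_, conj_inter_eq hn P Q hne hx⟩
  intro h
  apply hne
  have h2 : (x : G) • Q = P := h
  have hPP : x⁻¹ • P = P :=
    Sylow.smul_eq_iff_mem_normalizer.mpr (Subgroup.le_normalizer (inv_mem hx))
  calc Q = x⁻¹ • (x • Q) := by rw [inv_smul_smul]
    _ = x⁻¹ • P := by rw [h2]
    _ = P := hPP

theorem card_meets_lt (hn : Nat.card (Sylow p G) < p ^ 2) (P : Sylow p G) :
    Nat.card (meets P) < p := by
  classical
  have := Fintype.ofFinite (Sylow p G)
  have := Fintype.ofFinite (Subgroup G)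
  let S : Finset (Sylow p G) := Finset.univ.erase P
  have hS : S.card < p ^ 2 := by
    rw [Nat.card_eq_fintype_card] at hn
    exact lt_of_le_of_lt (Finset.card_le_univ _) hn
  have hM : Nat.card (meets P) = (S.image fun R : Sylow p G => (P : Subgroup G) ⊓ R).card := by
    rw [Nat.card_coe_set_eq, ← Set.ncard_coe_finset]
    congr 1
    ext D
    simp [meets, S]
  have h := Finset.mul_card_image_le_card (s := S) (f := fun R : Sylow p G => (P : Subgroup G) ⊓ R)
    (n := p) (by
      intro D hD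
      obtain ⟨Q, hQ, rfl⟩ := Finset.mem_image.mp hD
      have hQ' : Q ≠ P := (Finset.mem_erase.mp hQ).1
      refine le_trans (p_le_card_meetSet hn P Q hQ') (le_of_eq ?_)
      rw [Nat.card_coe_set_eq, ← Set.ncard_coe_finset]
      congr 1
      ext R
      simp [meetSet, S])
  rw [hM]
  by_contra hcon
  push Not at hcon
  have : p * p ≤ S.card := le_trans (Nat.mul_le_mul_left p hcon) h
  rw [pow_two] at hS
  omega

theorem inter_eq_inter (hn : Nat.card (Sylow p G) < p ^ 2) (P Q R : Sylow p G) (hQ : Q ≠ P)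
    (hR : R ≠ P) : (P : Subgroup G) ⊓ Q = (P : Subgroup G) ⊓ R := by
  by_contra hDE
  set D := (P : Subgroup G) ⊓ Q with hD
  set E := (P : Subgroup G) ⊓ R with hE
  have hcard : ∀ A B : Sylow p G, B ≠ A →
      Nat.card ↥((A : Subgroup G) ⊓ B) * p = Nat.card (A : Subgroup G) := by
    intro A B hBA
    exact (congrArg (Nat.card ↥((A : Subgroup G) ⊓ B) * ·) (relIndex_inter hn A B hBA).1).symm.trans
      (card_mul_relIndex inf_le_left)
  have heq : ∀ A B : Sylow p G, Nat.card (A : Subgroup G) = Nat.card (B : Subgroup G) :=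
    fun A B => by rw [A.card_eq_multiplicity, B.card_eq_multiplicity]
  have hsame : ∀ A B A' B' : Sylow p G, B ≠ A → B' ≠ A' →
      Nat.card ↥((A : Subgroup G) ⊓ B) = Nat.card ↥((A' : Subgroup G) ⊓ B') := by
    intro A B A' B' h h'
    exact Nat.eq_of_mul_eq_mul_right hp.out.pos
      (((hcard A B h).trans (heq A A')).trans (hcard A' B' h').symm)
  have key : ∀ X ∈ meetSet P E, X ≠ Q ∧ (Q : Subgroup G) ⊓ X ≠ D := by
    rintro X ⟨hXP, hX⟩
    have hXQ : X ≠ Q := by rintro rfl; exact hDE hX
    refine ⟨hXQ, fun hF => hDE ?_⟩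
    apply Subgroup.eq_of_le_of_card_ge
    · exact le_trans (le_inf inf_le_left (hF.ge.trans inf_le_right)) (le_of_eq hX)
    · exact le_of_eq (hsame P R P Q hR hQ)
  let f : meetSet P E → (meets Q \ {D} : Set (Subgroup G)) := fun X =>
    ⟨(Q : Subgroup G) ⊓ (X : Sylow p G), ⟨(X : Sylow p G), (key _ X.2).1, rfl⟩, (key _ X.2).2⟩
  have finj : Function.Injective f := by
    intro X Y hXY
    have hXY' := congrArg Subtype.val hXY
    simp only [f] at hXY'
    apply Subtype.ext
    have gen : ∀ Z : meetSet P E,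
        (Z : Sylow p G).toSubgroup = E ⊔ ((Q : Subgroup G) ⊓ (Z : Sylow p G)) := by
      rintro ⟨Z, hZP, hZ⟩
      set F := (Q : Subgroup G) ⊓ Z
      have hEZ : E ≤ Z := hZ ▸ inf_le_right
      have hle : E ⊔ F ≤ Z := sup_le hEZ inf_le_right
      have hnle : ¬ F ≤ E := by
        intro hFE
        apply (key Z ⟨hZP, hZ⟩).2
        apply Subgroup.eq_of_le_of_card_ge
        · exact le_inf (hFE.trans (hE ▸ inf_le_left)) inf_le_left
        · exact le_of_eq (hsame P Q Q Z hQ (key Z ⟨hZP, hZ⟩).1)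
      have h2 := Subgroup.relIndex_mul_relIndex E (E ⊔ F) Z le_sup_left hle
      have h3 : E.relIndex Z = p := by
        rw [← hZ, inf_comm]
        exact (relIndex_inter hn Z P hZP.symm).1
      rw [h3] at h2
      rcases (Nat.dvd_prime hp.out).mp (Dvd.intro _ h2) with h | h
      · exact absurd (le_sup_right.trans (Subgroup.relIndex_eq_one.mp h)) hnle
      · rw [h] at h2
        have : (E ⊔ F).relIndex Z = 1 := by
          nlinarith [hp.out.pos]
        exact (le_antisymm hle (Subgroup.relIndex_eq_one.mp this)).symm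
    apply Sylow.ext
    rw [gen X, gen Y, hXY']
  have h1 : p ≤ Nat.card (meets Q \ {D} : Set (Subgroup G)) :=
    (p_le_card_meetSet hn P R hR).trans (Nat.card_le_card_of_injective f finj)
  have h2 : Nat.card (meets Q \ {D} : Set (Subgroup G)) ≤ Nat.card (meets Q) :=
    Nat.card_mono (Set.toFinite _) Set.sdiff_subset
  have := card_meets_lt hn Q
  omega

/-- If `n_p(G) < p²`, the intersection of two distinct Sylow `p`-subgroups lies in every Sylow
`p`-subgroup. -/
theorem inter_le (hn : Nat.card (Sylow p G) < p ^ 2) (P Q R : Sylow p G) (hQ : Q ≠ P) :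
    (P : Subgroup G) ⊓ Q ≤ R := by
  by_cases hR : R = P
  · rw [hR]; exact inf_le_left
  · rw [inter_eq_inter hn P Q R hQ hR]; exact inf_le_right

/-- Brauer–Reynolds: if `n_p(G) < p²` and `G` has no nontrivial normal `p`-subgroup, then the
Sylow `p`-subgroups have order dividing `p`. -/
theorem card_sylow_dvd (hn : Nat.card (Sylow p G) < p ^ 2)
    (hcore : ∀ N : Subgroup G, N.Normal → IsPGroup p N → N = ⊥) (P : Sylow p G) :
    Nat.card (P : Subgroup G) ∣ p := by
  by_cases h : ∃ Q : Sylow p G, Q ≠ P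
  · obtain ⟨Q, hQ⟩ := h
    let I : Subgroup G := ⨅ R : Sylow p G, (R : Subgroup G)
    have hI : I.Normal := by
      refine ⟨fun x hx g => ?_⟩
      simp only [I, Subgroup.mem_iInf] at hx ⊢
      intro R
      have h1 := hx (g⁻¹ • R)
      rw [Sylow.coe_subgroup_smul, Subgroup.mem_pointwise_smul_iff_inv_smul_mem] at h1
      simpa [MulAut.smul_def, mul_assoc] using h1
    have hI' : IsPGroup p I := P.isPGroup'.to_le (iInf_le _ P)
    have hD : (P : Subgroup G) ⊓ Q = ⊥ :=
      le_bot_iff.mp (hcore I hI hI' ▸ le_iInf (fun R => inter_le hn P Q R hQ))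
    have h1 := card_mul_relIndex (inf_le_left : (P : Subgroup G) ⊓ Q ≤ P)
    rw [(relIndex_inter hn P Q hQ).1, hD, Subgroup.card_bot, one_mul] at h1
    rw [← h1]
  · push Not at h
    have : (P : Subgroup G).Normal := by
      have : Subsingleton (Sylow p G) := ⟨fun a b => (h a).trans (h b).symm⟩
      exact P.normal_of_subsingleton
    rw [hcore P this P.isPGroup', Subgroup.card_bot]
    exact one_dvd _

/-- A simple group of non-prime order has no nontrivial normal `p`-subgroup. -/
theorem normal_pGroup_eq_bot [IsSimpleGroup G] (hG : ¬ IsMulCommutative G) (N : Subgroup G)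
    (hN : N.Normal) (hNp : IsPGroup p N) : N = ⊥ := by
  rcases hN.eq_bot_or_eq_top with h | h
  · exact h
  · subst h
    exfalso
    have hGp : IsPGroup p G := hNp.of_equiv Subgroup.topEquiv
    have := hGp.center_nontrivial
    rcases (inferInstance : (Subgroup.center G).Normal).eq_bot_or_eq_top with hc | hc
    · exact (Subgroup.nontrivial_iff_ne_bot _).mp this hc
    · exact hG ⟨⟨fun a b => (Subgroup.mem_center_iff.mp (hc ▸ Subgroup.mem_top b) a)⟩⟩

theorem card_sylow_of_simple [IsSimpleGroup G] (hG : ¬ IsMulCommutative G) (hpG : p ∣ Nat.card G)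
    (hn : Nat.card (Sylow p G) < p ^ 2) (P : Sylow p G) : Nat.card (P : Subgroup G) = p := by
  rcases (Nat.dvd_prime hp.out).mp (card_sylow_dvd hn (normal_pGroup_eq_bot hG) P) with h | h
  · have := P.dvd_card_of_dvd_card hpG
    rw [h, Nat.dvd_one] at this
    exact absurd this hp.out.ne_one
  · exact h

end Cfsg.Agent.SylowNum
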