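import Cfsg.Agent.SylowNum.Decomp
import Cfsg.Agent.SylowNum.Small
import Cfsg.Agent.Lib.Thompson.PSolvable
import Cfsg.Agent.Lib.LinearGroup.Card
import Cfsg.Agent.S4700

/-!
# Fewer than `p²` Sylow `p`-subgroups and `p`-solvability
-/

set_option autoImplicit false

namespace Cfsg.Agent.SylowNum.BelowPSq

open Cfsg

universe u

variable {p : ℕ} [hp : Fact p.Prime]

/-- An extension of a `p`-solvable group by a `p`-solvable group is `p`-solvable. -/
theorem isPSolvable_extension :
    ∀ (n : ℕ) {G : Type u} [Group G] [Finite G], Nat.card G = n → ∀ (K : Subgroup G) [K.Normal],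
      IsPSolvable p K → IsPSolvable p (G ⧸ K) → IsPSolvable p G := by
  intro n
  induction n using Nat.strong_induction_on with
  | _ n ih =>
    intro G _ _ hn K _ hK hQ
    by_cases hb : K = ⊥
    · exact Thompson.isPSolvable_of_equiv
        ((QuotientGroup.quotientMulEquivOfEq hb).trans QuotientGroup.quotientBot) hQ
    haveI : Nontrivial K := (Subgroup.nontrivial_iff_ne_bot K).mpr hb
    obtain ⟨M₀, hch, hne, hkind⟩ : ∃ M₀ : Subgroup K, M₀.Characteristic ∧ M₀ ≠ ⊥ ∧
        (IsPGroup p M₀ ∨ (Nat.card M₀).Coprime p) := by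
      rcases Thompson.pCore_ne_bot_or_pPrimeCore_ne_bot hK with h | h
      · exact ⟨_, inferInstance, h, Or.inl Thompson.isPGroup_pCore⟩
      · exact ⟨_, inferInstance, h, Or.inr Thompson.card_pPrimeCore_coprime⟩
    haveI := hch
    haveI := Thompson.map_subtype_normal_of_characteristic K M₀
    set M := M₀.map K.subtype with hM
    have hcard : Nat.card M = Nat.card M₀ :=
      Subgroup.card_map_of_injective K.subtype_injective
    have hMne : M ≠ ⊥ := fun h => hne
      ((Subgroup.map_eq_bot_iff_of_injective _ K.subtype_injective).mp h)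
    have hMK : M ≤ K := Subgroup.map_subtype_le _
    refine Thompson.isPSolvable_of_quotient M ?_ ?_
    · refine hkind.imp (fun h => h.map _) (fun h => hcard ▸ h)
    · have hlt : Nat.card (G ⧸ M) < n := by
        rw [← hn, Subgroup.card_eq_card_quotient_mul_card_subgroup M]
        exact lt_mul_of_one_lt_right Nat.card_pos (M.one_lt_card_iff_ne_bot.mpr hMne)
      refine ih _ hlt rfl (K.map (QuotientGroup.mk' M)) ?_ ?_
      · exact Thompson.isPSolvable_of_surjective ((QuotientGroup.mk' M).subgroupMap K)
          (MonoidHom.subgroupMap_surjective _ _) hK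
      · exact Thompson.isPSolvable_of_equiv
          (QuotientGroup.quotientQuotientEquivQuotient M K hMK).symm hQ

/-- A prime power that is a product of two factors `p - e < p + d` of the exceptional shape
cannot occur. -/
theorem not_pow_exceptional {q k d e : ℕ} (hq : q.Prime) (hd : 2 ≤ d) (he : d ≤ e)
    (h : ((d - 1) * e + 1) * (d * e + 1 + d) = q ^ k) : False := by
  set A := (d - 1) * e + 1 with hA
  obtain ⟨a, -, ha⟩ := (Nat.dvd_prime_pow hq).mp (Dvd.intro _ h)
  obtain ⟨b, -, hb⟩ := (Nat.dvd_prime_pow hq).mp (Dvd.intro_left _ h)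
  obtain ⟨c, rfl⟩ : ∃ c, d = c + 2 := ⟨d - 2, by omega⟩
  have hA' : A = (c + 1) * e + 1 := by rw [hA]; rfl
  have hab : a ≤ b := by
    by_contra hcon
    have := Nat.pow_lt_pow_right hq.one_lt (Nat.lt_of_not_le hcon)
    rw [← ha, ← hb, hA'] at this
    nlinarith
  have hdvd : A ∣ (c + 2) * e + 1 + (c + 2) := by
    rw [ha, hb]; exact pow_dvd_pow q hab
  have h1 : A ∣ (c + 2) + e := by
    have h2 : (c + 2) * e + 1 + (c + 2) = A + ((c + 2) + e) := by rw [hA']; ring
    rw [h2] at hdvd
    exact (Nat.dvd_add_right dvd_rfl).mp hdvd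
  have h2 := Nat.le_of_dvd (by omega) h1
  rw [hA'] at h2
  rcases Nat.eq_zero_or_pos c with rfl | hc
  · have : A = e + 1 := by omega
    rw [this, show 0 + 2 + e = (e + 1) + 1 by ring] at h1
    have := Nat.eq_one_of_dvd_one ((Nat.dvd_add_right dvd_rfl).mp h1)
    omega
  · nlinarith

/-- A simple group with `p` dividing its order and fewer than `p²` Sylow `p`-subgroups: their
number is not a prime power, unless `p` is a Mersenne prime. -/
theorem not_pow_of_simple (hp' : ¬ (3 < p ∧ ∃ k : ℕ, p + 1 = 2 ^ k)) {S : Type u} [Group S]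
    [Finite S] [IsSimpleGroup S] (hS : ¬ IsMulCommutative S) (hpS : p ∣ Nat.card S)
    (hn : Nat.card (Sylow p S) < p ^ 2) {q k : ℕ} (hq : q.Prime) :
    Nat.card (Sylow p S) ≠ q ^ k := by
  intro hqk
  obtain ⟨P⟩ : Nonempty (Sylow p S) := inferInstance
  have hP := card_sylow_of_simple hS hpS hn P
  have hperf : commutator S = ⊤ := by
    rcases (inferInstance : (commutator S).Normal).eq_bot_or_eq_top with h | h
    · exfalso
      rw [commutator_eq_bot_iff_center_eq_top] at h
      exact hS ⟨⟨fun a b => (Subgroup.mem_center_iff.mp (h ▸ Subgroup.mem_top b) a)⟩⟩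
    · exact h
  have hO : pPrimeCore p S = ⊥ := by
    rcases (inferInstance : (pPrimeCore p S).Normal).eq_bot_or_eq_top with h | h
    · exact h
    · have := Thompson.not_dvd_card_pPrimeCore (p := p) (G := S)
      rw [h, Subgroup.card_top] at this
      exact absurd hpS this
  obtain ⟨r, hr⟩ : ∃ r, Nat.card (Sylow p S) = 1 + r * p := by
    have h1 : Nat.card (Sylow p S) % p = 1 := by
      have := card_sylow_modEq_one p S
      rwa [Nat.ModEq, Nat.mod_eq_of_lt hp.out.one_lt] at this
    have := Nat.div_add_mod' (Nat.card (Sylow p S)) p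
    exact ⟨Nat.card (Sylow p S) / p, by omega⟩
  have hne1 : Nat.card (Sylow p S) ≠ 1 := by
    intro h1
    have : Subsingleton (Sylow p S) := (Nat.card_eq_one_iff_unique.mp h1).1
    have hPn : (P : Subgroup S).Normal := P.normal_of_subsingleton
    have := normal_pGroup_eq_bot hS (P : Subgroup S) hPn P.isPGroup'
    rw [this, Subgroup.card_bot] at hP
    exact hp.out.ne_one hP.symm
  have hr0 : 0 < r := by
    rcases Nat.eq_zero_or_pos r with rfl | h
    · exact absurd (by simpa using hr) hne1
    · exact h
  have hrp : r < p := by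
    rw [hr] at hn
    by_contra hcon
    push Not at hcon
    nlinarith
  have hdiv : Nat.card (Sylow p S) * p ∣ Nat.card S := by
    have h2 : (P : Subgroup S).index * p = Nat.card S := by
      conv_lhs => arg 2; rw [← hP]
      exact Subgroup.index_mul_card _
    exact h2 ▸ Nat.mul_dvd_mul_right (Sylow.card_dvd_index P) p
  obtain ⟨e⟩ : Nonempty (S ⧸ pPrimeCore p S ≃* S) :=
    ⟨(QuotientGroup.quotientMulEquivOfEq hO).trans QuotientGroup.quotientBot⟩
  rw [hr] at hqk hdiv
  rcases S4700.result hperf p P hP r hr with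
    ⟨F, iF, iFt, hF, hp3, ⟨φ⟩⟩ | ⟨m, F, iF, iFt, hF, hpm, hp3, ⟨φ⟩⟩ | ⟨h, u, hh, hu, heq⟩
  · -- `PSL(2, p)`
    have hc := LinearGroup.gcd_mul_card_PSL_two (F := F)
    rw [Nat.card_eq_fintype_card (α := F), hF,
      ← Nat.card_congr φ.toEquiv, Nat.card_congr e.toEquiv] at hc
    have h1 : (1 + r * p) * p ∣ p * (p ^ 2 - 1) := by
      rw [← hc]; exact dvd_mul_of_dvd_right hdiv _
    rw [mul_comm p (p ^ 2 - 1)] at h1
    obtain ⟨c, hc'⟩ := (Nat.mul_dvd_mul_iff_right hp.out.pos).mp h1
    have hsq : 1 ≤ p ^ 2 := Nat.one_le_pow _ _ hp.out.pos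
    -- `c ≡ -1` modulo `p`
    obtain ⟨j, hj⟩ : p ∣ c + 1 := by
      have h3 : (1 + r * p) * c + 1 = p ^ 2 := by omega
      have h4 : p ∣ (c + 1) + r * c * p := ⟨p, by rw [← sq, ← h3]; ring⟩
      exact (Nat.dvd_add_left (Dvd.intro_left _ rfl)).mp h4
    have hj0 : 0 < j := by
      rcases Nat.eq_zero_or_pos j with rfl | h
      · simp at hj
      · exact h
    have hr1 : r = 1 := by
      have h3 : (1 + r * p) * (p * j) = p * p + r * p := by
        have : (1 + r * p) * c + 1 = p * p := by rw [← sq]; omega
        rw [← hj]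
        nlinarith
      have h4 : j + r * p * j = p + r := by
        apply Nat.eq_of_mul_eq_mul_left hp.out.pos
        nlinarith
      by_contra hne
      have : 2 * p ≤ r * p := Nat.mul_le_mul_right p (by omega)
      nlinarith
    subst hr1
    have heven : 2 ∣ q ^ k := by
      rw [← hqk]
      obtain ⟨t, ht⟩ := hp.out.odd_of_ne_two (by omega)
      exact ⟨t + 1, by rw [ht]; ring⟩
    have hq2 : 2 = q := (Nat.prime_dvd_prime_iff_eq Nat.prime_two hq).mp
      (Nat.prime_two.dvd_of_dvd_pow heven)
    subst hq2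
    exact hp' ⟨hp3, k, by rw [← hqk]; ring⟩
  · -- `SL(2, 2^m)`
    have hc := LinearGroup.card_SL_two (F := F)
    rw [Nat.card_eq_fintype_card (α := F), hF,
      ← Nat.card_congr φ.toEquiv, Nat.card_congr e.toEquiv] at hc
    have hm2 : 2 ≤ m := by
      by_contra hcon
      interval_cases m <;> simp_all
    obtain ⟨t, ht, hm'⟩ : ∃ t, 2 ^ m = 4 * t ∧ 0 < t := ⟨2 ^ (m - 2), by
      rw [show (4 : ℕ) = 2 ^ 2 by norm_num, ← pow_add]; congr 1; omega, Nat.two_pow_pos _⟩
    rw [ht] at hc hpm
    subst hpm
    have h5 : (4 * t) ^ 2 - 1 = (4 * t - 1) * (4 * t + 1) := by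
      obtain ⟨s, hs⟩ : ∃ s, 4 * t = s + 1 := ⟨4 * t - 1, by omega⟩
      rw [hs, Nat.add_sub_cancel, show (s + 1) ^ 2 = s * (s + 1 + 1) + 1 by ring,
        Nat.add_sub_cancel]
    have h1 : (1 + r * (4 * t + 1)) * (4 * t + 1) ∣ (4 * t * (4 * t - 1)) * (4 * t + 1) := by
      rw [mul_assoc (4 * t), ← h5, ← hc]; exact hdiv
    obtain ⟨c, hc'⟩ := (Nat.mul_dvd_mul_iff_right (by omega)).mp h1
    obtain ⟨s, hs⟩ : ∃ s, 4 * t = s + 1 := ⟨4 * t - 1, by omega⟩
    rw [hs, Nat.add_sub_cancel] at hc'
    rw [hs] at hqk
    -- `c ≡ 2` modulo `s + 2`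
    obtain ⟨j, hj⟩ : ∃ j, c = 2 + j * (s + 2) := by
      have h3 : c % (s + 2) = 2 := by
        have h4 : ((1 + r * (s + 1 + 1)) * c) % (s + 2) = c % (s + 2) := by
          rw [show (1 + r * (s + 1 + 1)) * c = c + r * c * (s + 2) by ring,
            Nat.add_mul_mod_self_right]
        rw [← hc'] at h4
        rw [← h4]
        obtain ⟨s', rfl⟩ : ∃ s', s = s' + 1 := ⟨s - 1, by omega⟩
        rw [show (s' + 1 + 1) * (s' + 1) = 2 + s' * (s' + 1 + 2) by ring,
          Nat.add_mul_mod_self_right, Nat.mod_eq_of_lt (by omega)]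
      exact ⟨c / (s + 2), by have := Nat.div_add_mod' c (s + 2); omega⟩
    subst hj
    have hj0 : j = 0 := by
      rcases Nat.eq_zero_or_pos j with h | h
      · exact h
      · exfalso
        have : s + 2 ≤ j * (s + 2) := Nat.le_mul_of_pos_left _ h
        have : r * (s + 2) ≥ s + 2 := Nat.le_mul_of_pos_left _ hr0
        nlinarith
    subst hj0
    have h2 : 1 + r * (s + 1 + 1) = 2 * t * s := by
      refine Nat.eq_of_mul_eq_mul_right (m := 2) two_pos ?_
      calc (1 + r * (s + 1 + 1)) * 2 = (1 + r * (s + 1 + 1)) * (2 + 0 * (s + 2)) := by ring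
        _ = (s + 1) * s := hc'.symm
        _ = 4 * t * s := by rw [hs]
        _ = 2 * t * s * 2 := by ring
    rw [h2] at hqk
    have hq2 : 2 = q := (Nat.prime_dvd_prime_iff_eq Nat.prime_two hq).mp
      (Nat.prime_two.dvd_of_dvd_pow ⟨t * s, by rw [← hqk]; ring⟩)
    subst hq2
    obtain ⟨i, -, hi⟩ := (Nat.dvd_prime_pow Nat.prime_two).mp (Dvd.intro_left _ hqk)
    rcases Nat.eq_zero_or_pos i with rfl | hi0
    · rw [pow_zero] at hi; omega
    · have : 2 ∣ s := by rw [hi]; exact dvd_pow_self 2 hi0.ne'
      omega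
  · -- the exceptional case
    have hh1 : h = 1 := by
      by_contra hne
      have h2 : 2 * (u * p) ≤ h * u * p := by
        rw [mul_assoc]; exact Nat.mul_le_mul_right _ (by omega)
      nlinarith
    subst hh1
    have hu2 : u ^ 2 + u = u * (u + 1) := by ring
    obtain ⟨f, hf⟩ : ∃ f, r = f + u := ⟨r - u, by
      by_contra hcon
      have : r * (u + 1) ≤ u * (u + 1) := Nat.mul_le_mul_right _ (by omega)
      nlinarith⟩
    have h1 : f * (u + 1) = u * p + 1 := by subst hf; linarith
    obtain ⟨e', he'⟩ : u + 1 ∣ p - 1 := by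
      have h2 : f * (u + 1) + (p - 1) = p * (u + 1) := by
        have := hp.out.one_lt
        rw [h1, mul_comm u p, mul_add, mul_one]; omega
      exact (Nat.dvd_add_right (Dvd.intro_left _ rfl)).mp (h2 ▸ Dvd.intro_left _ rfl)
    have hpde : p = (u + 1) * e' + 1 := by have := hp.out.one_lt; omega
    have hf' : f = u * e' + 1 := by
      apply Nat.eq_of_mul_eq_mul_right (Nat.succ_pos u)
      rw [Nat.succ_eq_add_one, h1, hpde]; ring
    subst hf' hf hpde
    refine not_pow_exceptional (k := k) hq (d := u + 1) (e := e') (by omega) ?_ ?_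
    · by_contra hcon
      nlinarith
    · rw [Nat.add_sub_cancel, ← hqk]; ring

theorem isPSolvable_iff_pow (hp' : ¬ (3 < p ∧ ∃ k : ℕ, p + 1 = 2 ^ k)) (n : ℕ) :
    ∀ (G : Type u) [Group G] [Finite G], Nat.card G = n → Nat.card (Sylow p G) < p ^ 2 →
      (IsPSolvable p G ↔ ∃ q k : ℕ, q.Prime ∧ Nat.card (Sylow p G) = q ^ k) := by
  induction n using Nat.strong_induction_on with
  | _ n ih =>
    intro G _ _ hn hlt
    have hone : Nat.card (Sylow p G) = 1 → ∃ q k : ℕ, q.Prime ∧ Nat.card (Sylow p G) = q ^ k :=
      fun h => ⟨2, 0, Nat.prime_two, by rw [h, pow_zero]⟩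
    rcases subsingleton_or_nontrivial G with hsub | hnt
    · refine ⟨fun _ => hone (card_sylow_eq_one_of_comm ⟨⟨fun a b => Subsingleton.elim _ _⟩⟩),
        fun _ => Thompson.isPSolvable_of_coprime ?_⟩
      rw [Nat.card_eq_one_iff_unique.mpr ⟨hsub, ⟨1⟩⟩]
      exact Nat.coprime_one_left p
    by_cases hsimple : IsSimpleGroup G
    · by_cases hpG : p ∣ Nat.card G
      · by_cases hc : IsMulCommutative G
        · refine ⟨fun _ => hone (card_sylow_eq_one_of_comm hc),
            fun _ => Thompson.isPSolvable_of_isPGroup ?_⟩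
          let : CommGroup G := { (inferInstance : Group G) with mul_comm := hc.1.1 }
          have hpr : (Nat.card G).Prime := IsSimpleGroup.prime_card
          exact IsPGroup.of_card (n := 1)
            (((Nat.prime_dvd_prime_iff_eq hp.out hpr).mp hpG).symm.trans (pow_one p).symm)
        · constructor
          · intro h
            obtain ⟨N, hN, hNb, hkind⟩ := Thompson.exists_minimal_step_of_isPSolvable h
            rcases hN.eq_bot_or_eq_top with h1 | h1
            · exact absurd h1 hNb
            rcases hkind with h2 | h2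
            · exact absurd (normal_pGroup_eq_bot hc N hN h2) hNb
            · rw [h1, Subgroup.card_top] at h2
              exact absurd hpG ((hp.out.coprime_iff_not_dvd).mp h2.symm)
          · rintro ⟨q, k, hq, hqk⟩
            exact absurd hqk (not_pow_of_simple hp' hc hpG hlt hq)
      · exact ⟨fun _ => hone (card_sylow_eq_one_of_not_dvd hpG), fun _ =>
          Thompson.isPSolvable_of_coprime (hp.out.coprime_iff_not_dvd.mpr hpG).symm⟩
    obtain ⟨K, hK, hKb, hKt⟩ : ∃ K : Subgroup G, K.Normal ∧ K ≠ ⊥ ∧ K ≠ ⊤ := by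
      by_contra hcon
      push Not at hcon
      exact hsimple ⟨fun H hH => (em (H = ⊥)).imp_right fun hb => hcon H hH hb⟩
    obtain ⟨P⟩ : Nonempty (Sylow p G) := inferInstance
    have hKcard : Nat.card K < n := by
      rw [← hn]
      exact lt_of_le_of_ne (Subgroup.card_le_card_group K)
        fun h => hKt (Subgroup.eq_top_of_card_eq K h)
    have hQcard : Nat.card (G ⧸ K) < n := by
      rw [← hn, Subgroup.card_eq_card_quotient_mul_card_subgroup K]
      exact lt_mul_of_one_lt_right Nat.card_pos (K.one_lt_card_iff_ne_bot.mpr hKb)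
    set D := (P : Subgroup G) ⊓ K with hD
    set N := ((P : Subgroup G) ⊔ K) ⊓ Subgroup.normalizer (D : Set G) with hN
    have hformula := card_sylow_formula K P
    rw [← hD, ← hN] at hformula
    set a := Nat.card (Sylow p (G ⧸ K))
    set b := Nat.card (Sylow p K)
    set c := Nat.card (Sylow p N)
    have ha0 : 0 < a := Nat.card_pos
    have hb0 : 0 < b := Nat.card_pos
    have hc0 : 0 < c := Nat.card_pos
    have hdvda : a ∣ Nat.card (Sylow p G) := ⟨b * c, by rw [hformula, mul_assoc]⟩
    have hdvdb : b ∣ Nat.card (Sylow p G) := ⟨a * c, by rw [hformula]; ring⟩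
    have hlta : a < p ^ 2 := lt_of_le_of_lt (Nat.le_of_dvd Nat.card_pos hdvda) hlt
    have hltb : b < p ^ 2 := lt_of_le_of_lt (Nat.le_of_dvd Nat.card_pos hdvdb) hlt
    constructor
    · intro hsol
      by_cases hnil : (P : Subgroup G) ⊓ K = ⊥ ∧ (P : Subgroup G) ⊔ K = ⊤
      · -- a normal `p`-complement
        have hpart : ∀ l : ℕ, l.Prime → l ∣ Nat.card (Sylow p G) →
            p < l ^ (Nat.card (Sylow p G)).factorization l := by
          intro l hl hld
          haveI : Fact l.Prime := ⟨hl⟩
          have h1 := pNilpotent_part_modEq K P hnil.1 hnil.2 l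
          have h2 : 1 < l ^ (Nat.card (Sylow p G)).factorization l :=
            Nat.one_lt_pow (hl.factorization_pos_of_dvd Nat.card_pos.ne' hld).ne' hl.one_lt
          by_contra hcon
          push Not at hcon
          rcases Nat.lt_or_eq_of_le hcon with h3 | h3
          · have := h1.eq_of_lt_of_lt h3 hp.out.one_lt
            omega
          · rw [h3, Nat.ModEq, Nat.mod_self, Nat.mod_eq_of_lt hp.out.one_lt] at h1
            omega
        by_cases h1 : Nat.card (Sylow p G) = 1
        · exact hone h1
        obtain ⟨l, hl, hld⟩ := Nat.exists_prime_and_dvd h1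
        refine ⟨l, (Nat.card (Sylow p G)).factorization l, hl, ((Nat.ordProj_mul_ordCompl_eq_self (Nat.card (Sylow p G)) l).symm.trans ?_)⟩
        suffices h : Nat.card (Sylow p G) / l ^ (Nat.card (Sylow p G)).factorization l = 1 by
          rw [h, mul_one]
        by_contra h2
        obtain ⟨l', hl', hld'⟩ := Nat.exists_prime_and_dvd h2
        have hne : l' ≠ l := by
          rintro rfl
          exact Nat.not_dvd_ordCompl hl Nat.card_pos.ne' hld'
        have hld'' := hld'.trans (Nat.ordCompl_dvd _ _)
        have hA := hpart l hl hld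
        have hB := hpart l' hl' hld''
        have hmul : l ^ (Nat.card (Sylow p G)).factorization l *
            l' ^ (Nat.card (Sylow p G)).factorization l' ∣ Nat.card (Sylow p G) :=
          (Nat.Coprime.pow _ _ ((Nat.coprime_primes hl hl').mpr hne.symm)).mul_dvd_of_dvd_of_dvd
            (Nat.ordProj_dvd _ _) (Nat.ordProj_dvd _ _)
        have := Nat.le_of_dvd Nat.card_pos hmul
        nlinarith
      · have hDN : (D.subgroupOf N).Normal :=
          Subgroup.normal_subgroupOf_of_le_normalizer inf_le_right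
        have hDle : D ≤ N := le_inf (inf_le_left.trans le_sup_left) Subgroup.le_normalizer
        have hNcard : Nat.card (N ⧸ D.subgroupOf N) < n := by
          have e := Subgroup.card_eq_card_quotient_mul_card_subgroup (D.subgroupOf N)
          rw [Nat.card_congr (Subgroup.subgroupOfEquivOfLe hDle).toEquiv] at e
          have eN := Subgroup.card_le_card_group N
          rw [← hn]
          clear ih
          by_cases hb : D = ⊥
          · have hM : (P : Subgroup G) ⊔ K ≠ ⊤ := fun h => hnil ⟨hb, h⟩
            have hne : N ≠ ⊤ := fun h => hM (top_le_iff.mp (h ▸ inf_le_left))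
            have : Nat.card N ≠ Nat.card G := fun h => hne (Subgroup.eq_top_of_card_eq N h)
            have h5 : Nat.card D = 1 := by rw [hb, Subgroup.card_bot]
            rw [h5, mul_one] at e
            omega
          · have h2 : 1 < Nat.card D := D.one_lt_card_iff_ne_bot.mpr hb
            have h4 : Nat.card (N ⧸ D.subgroupOf N) * 2 ≤ Nat.card N :=
              e ▸ Nat.mul_le_mul_left _ h2
            have h3 : 0 < Nat.card (N ⧸ D.subgroupOf N) := Nat.card_pos
            omega
        have hcq : Nat.card (Sylow p (N ⧸ D.subgroupOf N)) = c :=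
          card_sylow_quotient_of_pGroup (D.subgroupOf N)
            ((P.isPGroup'.to_le inf_le_left).comap_of_injective N.subtype N.subtype_injective)
        have hltc : c < p ^ 2 := lt_of_le_of_lt (Nat.le_of_dvd Nat.card_pos
          ⟨a * b, by rw [hformula]; ring⟩) hlt
        have hA := (ih _ hQcard (G ⧸ K) rfl hlta).mp (Thompson.isPSolvable_quotient K hsol)
        have hB := (ih _ hKcard K rfl hltb).mp (Thompson.isPSolvable_subgroup K hsol)
        have hC := (ih _ hNcard (N ⧸ D.subgroupOf N) rfl (hcq.symm ▸ hltc)).mp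
          (Thompson.isPSolvable_quotient _ (Thompson.isPSolvable_subgroup N hsol))
        rw [hcq] at hC
        have hma : a % p = 1 % p := card_sylow_modEq_one p (G ⧸ K)
        have hmb : b % p = 1 % p := card_sylow_modEq_one p K
        have hmc : c % p = 1 % p := card_sylow_modEq_one p N
        rw [Nat.mod_eq_of_lt hp.out.one_lt] at hma hmb hmc
        have hgt : ∀ x : ℕ, x % p = 1 → x ≠ 1 → p < x := by
          intro x hx hx1
          by_contra hcon
          push Not at hcon
          rcases Nat.lt_or_eq_of_le hcon with h3 | h3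
          · rw [Nat.mod_eq_of_lt h3] at hx; exact hx1 hx
          · rw [h3, Nat.mod_self] at hx; omega
        rw [hformula]
        by_cases ha1 : a = 1
        · by_cases hb1 : b = 1
          · simpa [ha1, hb1] using hC
          · by_cases hc1 : c = 1
            · simpa [ha1, hc1] using hB
            · exfalso
              have := hgt b hmb hb1
              have := hgt c hmc hc1
              rw [hformula, ha1] at hlt
              nlinarith
        · by_cases hb1 : b = 1
          · by_cases hc1 : c = 1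
            · simpa [hb1, hc1] using hA
            · exfalso
              have := hgt a hma ha1
              have := hgt c hmc hc1
              rw [hformula, hb1] at hlt
              nlinarith
          · exfalso
            have := hgt a hma ha1
            have := hgt b hmb hb1
            have : a * b ≤ a * b * c := Nat.le_mul_of_pos_right _ hc0
            rw [hformula] at hlt
            nlinarith
    · rintro ⟨q, k, hq, hqk⟩
      obtain ⟨i, -, hi⟩ := (Nat.dvd_prime_pow hq).mp (hqk ▸ hdvda)
      obtain ⟨j, -, hj⟩ := (Nat.dvd_prime_pow hq).mp (hqk ▸ hdvdb)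
      exact isPSolvable_extension n hn K ((ih _ hKcard K rfl hltb).mpr ⟨q, j, hq, hj⟩)
        ((ih _ hQcard (G ⧸ K) rfl hlta).mpr ⟨q, i, hq, hi⟩)

end Cfsg.Agent.SylowNum.BelowPSq
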