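import Cfsg.Agent.SylowNum.Small
import Mathlib.Data.Nat.Prime.Pow

/-!
# Twenty-two Sylow 3-subgroups force Sylow subgroups of order 3
-/

set_option autoImplicit false

namespace Cfsg.Agent.SylowNum

open scoped Pointwise
open MulAction

variable {G : Type*} [Group G] [Finite G] [hp : Fact (Nat.Prime 3)]

/-- Two Sylow 3-subgroups meeting in index 3. -/
def Near (P Q : Sylow 3 G) : Prop :=
  Q ≠ P ∧ ((P : Subgroup G) ⊓ Q).relIndex P = 3

theorem card_sylow_congr (P Q : Sylow 3 G) : Nat.card (P : Subgroup G) = Nat.card (Q : Subgroup G) := by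
  rw [P.card_eq_multiplicity, Q.card_eq_multiplicity]

theorem card_inter_mul {P Q : Sylow 3 G} (h : Near P Q) :
    Nat.card ↥((P : Subgroup G) ⊓ Q) * 3 = Nat.card (P : Subgroup G) :=
  (congrArg (Nat.card ↥((P : Subgroup G) ⊓ Q) * ·) h.2).symm.trans (card_mul_relIndex inf_le_left)

theorem card_inter_mul_le {P Q : Sylow 3 G} (h : Q ≠ P) :
    Nat.card ↥((P : Subgroup G) ⊓ Q) * 3 ≤ Nat.card (P : Subgroup G) := by
  refine le_trans (Nat.mul_le_mul_left _ ?_) (card_mul_relIndex (inf_le_left : (P : Subgroup G) ⊓ Q ≤ P)).le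
  obtain ⟨k, hk⟩ : ∃ k, ((P : Subgroup G) ⊓ Q).relIndex P = 3 ^ k := by
    rw [Subgroup.relIndex, ← stabilizer_sylow_eq, index_stabilizer, ← Nat.card_coe_set_eq]
    exact P.isPGroup'.card_orbit Q
  rcases Nat.eq_zero_or_pos k with h0 | h0
  · rw [h0, pow_zero, Subgroup.relIndex_eq_one] at hk
    exact absurd (sylow_eq_of_le (hk.trans inf_le_right)).symm h
  · exact hk ▸ Nat.le_of_dvd (pow_pos (by norm_num) k) (dvd_pow_self 3 h0.ne')

theorem Near.symm {P Q : Sylow 3 G} (h : Near P Q) : Near Q P := by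
  refine ⟨h.1.symm, ?_⟩
  have h2 := card_mul_relIndex (inf_le_left : (Q : Subgroup G) ⊓ P ≤ Q)
  rw [inf_comm] at h2
  have h3 := card_inter_mul h
  rw [card_sylow_congr P Q] at h3
  rw [inf_comm]
  exact Nat.eq_of_mul_eq_mul_left Nat.card_pos (h2.trans h3.symm)

/-- A Sylow subgroup containing the common part of a near pair meets each member of the pair
exactly there. -/
theorem Near.inter_eq {P Q R : Sylow 3 G} (h : Near P Q) (hR : R ≠ P)
    (hD : (P : Subgroup G) ⊓ Q ≤ R) : (P : Subgroup G) ⊓ R = (P : Subgroup G) ⊓ Q ∧ Near P R := by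
  have h1 : (P : Subgroup G) ⊓ Q ≤ (P : Subgroup G) ⊓ R := le_inf inf_le_left hD
  have h2 := card_inter_mul h
  have h3 := card_inter_mul_le hR
  have h4 := Subgroup.eq_of_le_of_card_ge h1 (by omega)
  exact ⟨h4.symm, hR, h4 ▸ h.2⟩

theorem Near.conj_inter {P Q : Sylow 3 G} (h : Near P Q) {x : G} (hx : x ∈ (P : Subgroup G)) :
    (P : Subgroup G) ⊓ ((x • Q : Sylow 3 G) : Subgroup G) = (P : Subgroup G) ⊓ Q := by
  have hP : MulAut.conj x • (P : Subgroup G) = P := Subgroup.conj_smul_eq_self_of_mem hx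
  have hnorm : (((P : Subgroup G) ⊓ Q).subgroupOf P).Normal := by
    apply Subgroup.normal_of_index_eq_minFac_card
    rw [← Subgroup.relIndex, h.2]
    obtain ⟨k, hk⟩ := IsPGroup.iff_card.mp P.isPGroup'
    have hk0 : k ≠ 0 := by
      intro h0
      have h2 := card_inter_mul h
      rw [hk, h0, pow_zero] at h2
      omega
    rw [hk, hp.out.pow_minFac hk0]
  rw [Sylow.coe_subgroup_smul]
  conv_lhs => rw [← hP, ← Subgroup.smul_inf]
  ext y
  rw [Subgroup.mem_pointwise_smul_iff_inv_smul_mem, ← map_inv, MulAut.smul_def,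
    MulAut.conj_apply, inv_inv]
  constructor
  · intro h
    have h2 := Subgroup.mem_subgroupOf.mp
      (hnorm.conj_mem ⟨_, (Subgroup.mem_inf.mp h).1⟩ (Subgroup.mem_subgroupOf.mpr h) ⟨x, hx⟩)
    simpa only [Subgroup.coe_mul, Subgroup.coe_inv, mul_assoc, mul_inv_cancel, mul_one,
      mul_inv_cancel_left] using h2
  · intro h
    have h2 := Subgroup.mem_subgroupOf.mp
      (hnorm.conj_mem ⟨y, (Subgroup.mem_inf.mp h).1⟩ (Subgroup.mem_subgroupOf.mpr h)
        ⟨x⁻¹, inv_mem hx⟩)
    simpa only [Subgroup.coe_mul, Subgroup.coe_inv, inv_inv] using h2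

theorem smul_ne_of_mem {P Q : Sylow 3 G} (hQ : Q ≠ P) {x : G} (hx : x ∈ (P : Subgroup G)) :
    x • Q ≠ P := fun h => hQ (by
  rw [← inv_smul_smul x Q, h]
  exact Sylow.smul_eq_iff_mem_normalizer.mpr (Subgroup.le_normalizer (inv_mem hx)))

theorem three_le_card_class {P Q : Sylow 3 G} (h : Near P Q) :
    3 ≤ Set.ncard {R : Sylow 3 G | R ≠ P ∧ (P : Subgroup G) ⊓ R = (P : Subgroup G) ⊓ Q} := by
  have h1 : 3 = Set.ncard (orbit (P : Subgroup G) Q) := by
    have h2 := h.2
    rw [Subgroup.relIndex, ← stabilizer_sylow_eq, index_stabilizer] at h2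
    exact h2.symm
  refine le_of_eq_of_le h1 (Set.ncard_le_ncard ?_ (Set.toFinite _))
  rintro R ⟨⟨x, hx⟩, rfl⟩
  exact ⟨smul_ne_of_mem h.1 hx, h.conj_inter hx⟩

open Classical in
/-- The Sylow subgroups near `Q` outside the class of `D`. -/
noncomputable def others [Fintype (Sylow 3 G)] (Q : Sylow 3 G) (D : Subgroup G) :
    Finset (Sylow 3 G) :=
  Finset.univ.filter fun R => Near Q R ∧ (Q : Subgroup G) ⊓ R ≠ D

theorem others_disjoint [Fintype (Sylow 3 G)] {P Q Q' : Sylow 3 G} (hQ : Near P Q)
    (hQD : (P : Subgroup G) ⊓ Q ≤ Q') (hne : Q' ≠ Q) :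
    Disjoint (others Q ((P : Subgroup G) ⊓ Q)) (others Q' ((P : Subgroup G) ⊓ Q)) := by
  classical
  set D := (P : Subgroup G) ⊓ Q with hD
  rw [Finset.disjoint_left]
  intro R hR hR'
  obtain ⟨h1, h1'⟩ := (Finset.mem_filter.mp hR).2
  obtain ⟨h2, h2'⟩ := (Finset.mem_filter.mp hR').2
  have hDQ : D ≤ Q := inf_le_right
  have hcD : Nat.card D * 3 = Nat.card (P : Subgroup G) := card_inter_mul hQ
  -- `D` does not fix `R`
  have hnle : ¬ D ≤ R := by
    intro h
    apply h1'
    have h3 : D ≤ (Q : Subgroup G) ⊓ R := le_inf hDQ h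
    have h4 := card_inter_mul h1
    rw [card_sylow_congr Q P] at h4
    exact (Subgroup.eq_of_le_of_card_ge h3 (by omega)).symm
  obtain ⟨d, hd, hdR⟩ : ∃ d ∈ D, d • R ≠ R := by
    by_contra h
    push Not at h
    apply hnle
    intro d hd
    have : d ∈ (P : Subgroup G) ⊓ Subgroup.normalizer (R : Set G) :=
      ⟨(inf_le_left : D ≤ P) hd, Sylow.smul_eq_iff_mem_normalizer.mp (h d hd)⟩
    have h5 : d ∈ (P : Subgroup G) ⊓ (R : Subgroup G) := P.isPGroup'.inf_normalizer_sylow R ▸ this
    exact h5.2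
  have e1 := h1.conj_inter (hDQ hd)
  have e2 := h2.conj_inter (hQD hd)
  set R' := d • R
  have c1 := card_inter_mul h1
  have c2 := card_inter_mul h2
  have c3 := card_inter_mul_le (P := R) (Q := R') hdR
  rw [card_sylow_congr Q P] at c1
  rw [card_sylow_congr Q' P] at c2
  rw [card_sylow_congr R P] at c3
  have f1 : (Q : Subgroup G) ⊓ R = (R : Subgroup G) ⊓ R' :=
    Subgroup.eq_of_le_of_card_ge (le_inf inf_le_right (e1 ▸ inf_le_right)) (by omega)
  have f2 : (Q' : Subgroup G) ⊓ R = (R : Subgroup G) ⊓ R' :=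
    Subgroup.eq_of_le_of_card_ge (le_inf inf_le_right (e2 ▸ inf_le_right)) (by omega)
  have f3 : (Q : Subgroup G) ⊓ R ≤ (Q : Subgroup G) ⊓ Q' :=
    le_inf inf_le_left ((f1.trans f2.symm).le.trans inf_le_left)
  have c4 := card_inter_mul_le (P := Q) (Q := Q') hne
  rw [card_sylow_congr Q P] at c4
  have f4 : D ≤ (Q : Subgroup G) ⊓ Q' := le_inf hDQ hQD
  exact h1' ((Subgroup.eq_of_le_of_card_ge f3 (by omega)).trans
    (Subgroup.eq_of_le_of_card_ge f4 (by omega)).symm)

open Classical in
/-- The Sylow subgroups near `P`. -/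
noncomputable def nearSet [Fintype (Sylow 3 G)] (P : Sylow 3 G) : Finset (Sylow 3 G) :=
  Finset.univ.filter fun R => Near P R

open Classical in
/-- The members of a class: the Sylow subgroups other than `P` meeting it in `D`. -/
noncomputable def classSet [Fintype (Sylow 3 G)] (P : Sylow 3 G) (D : Subgroup G) :
    Finset (Sylow 3 G) :=
  Finset.univ.filter fun R => R ≠ P ∧ (P : Subgroup G) ⊓ R = D

theorem near_smul {P Q : Sylow 3 G} (g : G) (h : Near P Q) : Near (g • P) (g • Q) := by
  refine ⟨fun he => h.1 (smul_left_cancel g he), ?_⟩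
  rw [Sylow.coe_subgroup_smul, Sylow.coe_subgroup_smul, ← Subgroup.smul_inf]
  have h2 := card_inter_mul h
  have e := card_mul_relIndex (Subgroup.pointwise_smul_le_pointwise_smul_iff.mpr
    (inf_le_left : (P : Subgroup G) ⊓ Q ≤ P) :
      MulAut.conj g • ((P : Subgroup G) ⊓ Q) ≤ MulAut.conj g • (P : Subgroup G))
  rw [← Nat.card_congr (Subgroup.equivSMul (MulAut.conj g) ((P : Subgroup G) ⊓ Q)).toEquiv,
    ← Nat.card_congr (Subgroup.equivSMul (MulAut.conj g) (P : Subgroup G)).toEquiv] at e
  exact Nat.eq_of_mul_eq_mul_left Nat.card_pos (e.trans h2.symm)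

theorem card_nearSet_eq [Fintype (Sylow 3 G)] (P Q : Sylow 3 G) :
    (nearSet P).card = (nearSet Q).card := by
  classical
  obtain ⟨g, rfl⟩ := MulAction.exists_smul_eq G P Q
  refine Finset.card_bij (fun R _ => g • R) ?_ ?_ ?_
  · intro R hR
    exact Finset.mem_filter.mpr ⟨Finset.mem_univ _, near_smul g (Finset.mem_filter.mp hR).2⟩
  · intro R _ T _ h
    exact smul_left_cancel g h
  · intro R hR
    refine ⟨g⁻¹ • R, Finset.mem_filter.mpr ⟨Finset.mem_univ _, ?_⟩, smul_inv_smul g R⟩
    have := near_smul g⁻¹ (Finset.mem_filter.mp hR).2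
    rwa [inv_smul_smul] at this

/-- The orbits of length three give the count of near subgroups modulo nine. -/
theorem card_nearSet_mod [Fintype (Sylow 3 G)] (hn : Nat.card (Sylow 3 G) = 22) (P : Sylow 3 G) :
    (nearSet P).card % 9 = 3 := by
  classical
  have := Fintype.ofFinite (P : Subgroup G)
  -- split the Sylow subgroups by orbit
  have hsize : ∀ Q : Sylow 3 G, Q ≠ P → Near P Q ∨ 9 ∣ Nat.card (orbit (P : Subgroup G) Q) := by
    intro Q hQ
    obtain ⟨k, hk⟩ := P.isPGroup'.card_orbit Q
    have hidx : ((P : Subgroup G) ⊓ Q).relIndex P = Nat.card (orbit (P : Subgroup G) Q) := by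
      rw [Subgroup.relIndex, ← stabilizer_sylow_eq, index_stabilizer, Nat.card_coe_set_eq]
    rcases k with _ | _ | k
    · rw [hk, pow_zero, Subgroup.relIndex_eq_one] at hidx
      exact absurd (sylow_eq_of_le (hidx.trans inf_le_right)).symm hQ
    · left; exact ⟨hQ, by rw [hidx, hk]; norm_num⟩
    · right; rw [hk]; exact ⟨3 ^ k, by ring⟩
  let F : Finset (Sylow 3 G) := Finset.univ.filter fun Q => Q ≠ P ∧ ¬ Near P Q
  have hF : 9 ∣ F.card := by
    rw [Finset.card_eq_sum_card_image (fun Q => (orbit (P : Subgroup G) Q).toFinset) F]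
    refine Finset.dvd_sum fun O hO => ?_
    obtain ⟨Q, hQ, rfl⟩ := Finset.mem_image.mp hO
    obtain ⟨hQ1, hQ2⟩ := (Finset.mem_filter.mp hQ).2
    have h9 := (hsize Q hQ1).resolve_left hQ2
    refine h9.trans (dvd_of_eq ?_)
    rw [Nat.card_eq_fintype_card, ← Set.toFinset_card]
    congr 1
    ext R
    rw [Set.mem_toFinset, Finset.mem_filter]
    constructor
    · intro hR
      have heq : orbit (P : Subgroup G) R = orbit (P : Subgroup G) Q := orbit_eq_iff.mpr hR
      refine ⟨Finset.mem_filter.mpr ⟨Finset.mem_univ _, ?_, ?_⟩, by simp [heq]⟩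
      · obtain ⟨⟨x, hx⟩, rfl⟩ := hR
        exact smul_ne_of_mem hQ1 hx
      · intro hnear
        apply hQ2
        refine ⟨hQ1, ?_⟩
        have h3 := hnear.2
        rw [Subgroup.relIndex, ← stabilizer_sylow_eq, index_stabilizer] at h3 ⊢
        rwa [← heq]
    · rintro ⟨-, hR⟩
      have := Set.toFinset_inj.mp hR
      exact this ▸ mem_orbit_self R
  have hsplit : (nearSet P).card + F.card + 1 = 22 := by
    rw [← hn, Nat.card_eq_fintype_card, ← Finset.card_univ]
    have h1 : Finset.univ.erase P = nearSet P ∪ F := by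
      ext Q
      simp only [nearSet, F, Finset.mem_erase, Finset.mem_univ, and_true, Finset.mem_union,
        Finset.mem_filter, true_and]
      constructor
      · exact fun h => (em (Near P Q)).imp_right fun h' => ⟨h, h'⟩
      · rintro (h | h)
        · exact h.1
        · exact h.1
    have h2 : Disjoint (nearSet P) F := by
      rw [Finset.disjoint_left]
      intro Q hQ hQ'
      exact (Finset.mem_filter.mp hQ').2.2 (Finset.mem_filter.mp hQ).2
    rw [← Finset.card_union_of_disjoint h2, ← h1, Finset.card_erase_add_one (Finset.mem_univ P)]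
  obtain ⟨c, hc⟩ := hF
  omega

/-- All Sylow subgroups near `P` meet it in the same subgroup. -/
theorem inter_unique [Fintype (Sylow 3 G)] (hn : Nat.card (Sylow 3 G) = 22) {P Q R : Sylow 3 G}
    (hQ : Near P Q) (hR : Near P R) : (P : Subgroup G) ⊓ Q = (P : Subgroup G) ⊓ R := by
  classical
  by_contra hne
  set N := (nearSet P).card with hN
  have hclass : ∀ {Q : Sylow 3 G}, Near P Q →
      3 ≤ (classSet P ((P : Subgroup G) ⊓ Q)).card ∧
        classSet P ((P : Subgroup G) ⊓ Q) ⊆ nearSet P := by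
    intro Q hQ
    refine ⟨(three_le_card_class hQ).trans (le_of_eq ?_), fun X hX => ?_⟩
    · rw [← Set.ncard_coe_finset]
      congr 1
      ext X
      simp [classSet]
    · obtain ⟨h1, h2⟩ := (Finset.mem_filter.mp hX).2
      exact Finset.mem_filter.mpr ⟨Finset.mem_univ _,
        (Near.inter_eq hQ h1 (h2 ▸ inf_le_right)).2⟩
  have hdisj2 : Disjoint (classSet P ((P : Subgroup G) ⊓ Q)) (classSet P ((P : Subgroup G) ⊓ R)) := by
    rw [Finset.disjoint_left]
    intro X hX hX'
    exact hne ((Finset.mem_filter.mp hX).2.2.symm.trans (Finset.mem_filter.mp hX').2.2)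
  have htot : (classSet P ((P : Subgroup G) ⊓ Q)).card + (classSet P ((P : Subgroup G) ⊓ R)).card ≤ N := by
    rw [← Finset.card_union_of_disjoint hdisj2]
    exact Finset.card_le_card (Finset.union_subset (hclass hQ).2 (hclass hR).2)
  -- choose the smaller class
  obtain ⟨T, hT, hTle⟩ : ∃ T : Sylow 3 G, Near P T ∧
      2 * (classSet P ((P : Subgroup G) ⊓ T)).card ≤ N := by
    rcases le_total (classSet P ((P : Subgroup G) ⊓ Q)).card (classSet P ((P : Subgroup G) ⊓ R)).card
      with h | h
    · exact ⟨Q, hQ, by omega⟩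
    · exact ⟨R, hR, by omega⟩
  set D := (P : Subgroup G) ⊓ T with hD
  set S := classSet P D with hS
  have hN12 : 12 ≤ N := by
    have := card_nearSet_mod hn P
    have := (hclass hQ).1
    have := (hclass hR).1
    omega
  have hmem : ∀ X ∈ insert P S, D ≤ (X : Subgroup G) := by
    intro X hX
    rcases Finset.mem_insert.mp hX with rfl | hX
    · exact inf_le_left
    · exact (Finset.mem_filter.mp hX).2.2.symm.le.trans inf_le_right
  -- all members of the class have `N - #S` other neighbours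
  have hoth : ∀ X ∈ insert P S, N ≤ (others X D).card + S.card := by
    intro X hX
    have h1 : nearSet X ⊆ others X D ∪ (insert P S).erase X := by
      intro Y hY
      have hY' := (Finset.mem_filter.mp hY).2
      by_cases hYD : (X : Subgroup G) ⊓ Y = D
      · refine Finset.mem_union_right _ (Finset.mem_erase.mpr ⟨hY'.1, ?_⟩)
        by_cases hYP : Y = P
        · exact Finset.mem_insert.mpr (Or.inl hYP)
        · refine Finset.mem_insert_of_mem (Finset.mem_filter.mpr ⟨Finset.mem_univ _, hYP, ?_⟩)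
          exact (Near.inter_eq hT hYP ((le_of_eq hYD.symm).trans inf_le_right)).1
      · exact Finset.mem_union_left _ (Finset.mem_filter.mpr ⟨Finset.mem_univ _, hY', hYD⟩)
    have h2 := (Finset.card_le_card h1).trans (Finset.card_union_le _ _)
    rw [Finset.card_erase_of_mem hX, card_nearSet_eq X P] at h2
    have := Finset.card_insert_le P S
    omega
  have hdisj : ((insert P S : Finset (Sylow 3 G)) : Set (Sylow 3 G)).PairwiseDisjoint
      fun X => others X D := by
    intro X hX Y hY hXY
    change Disjoint (others X D) (others Y D)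
    -- choose a representation of `D` as an intersection based at `X`
    rcases Finset.mem_insert.mp hX with hXP | hXS
    · subst hXP
      obtain ⟨hDY, hY2⟩ := Near.inter_eq hT hXY.symm (hmem Y hY)
      have h3 := others_disjoint (Q' := Y) hY2.symm (by rw [inf_comm, hDY]; exact hmem Y hY) hXY.symm
      rwa [inf_comm, hDY] at h3
    · obtain ⟨hXP, hXD⟩ := (Finset.mem_filter.mp hXS).2
      have hX2 : Near P X := (Near.inter_eq hT hXP (hmem X hX)).2
      have h3 := others_disjoint (Q' := Y) hX2 (by rw [hXD]; exact hmem Y hY) hXY.symm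
      rwa [hXD] at h3
  have hS3 : 3 ≤ S.card := (hclass hT).1
  have hPS : P ∉ S := fun h => (Finset.mem_filter.mp h).2.1 rfl
  have h24 : (S.card + 1) * (N - S.card) ≤ ((insert P S).biUnion fun X => others X D).card := by
    rw [Finset.card_biUnion hdisj, ← Finset.card_insert_of_notMem hPS, ← smul_eq_mul,
      ← Finset.sum_const]
    exact Finset.sum_le_sum fun X hX => by have := hoth X hX; omega
  have hle : ((insert P S).biUnion fun X => others X D).card ≤ 22 := by
    rw [← hn, Nat.card_eq_fintype_card]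
    exact Finset.card_le_univ _
  have h6 : 4 * 6 ≤ (S.card + 1) * (N - S.card) := Nat.mul_le_mul (by omega) (by omega)
  omega

/-- Twenty-two Sylow 3-subgroups and no normal 3-subgroup: the Sylow subgroups have order 3. -/
theorem card_sylow_three (hn : Nat.card (Sylow 3 G) = 22)
    (hcore : ∀ N : Subgroup G, N.Normal → IsPGroup 3 N → N = ⊥) (P : Sylow 3 G) :
    Nat.card (P : Subgroup G) = 3 := by
  classical
  have := Fintype.ofFinite (Sylow 3 G)
  have hex : ∀ P : Sylow 3 G, ∃ Q, Near P Q := by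
    intro P
    have h1 := card_nearSet_mod hn P
    obtain ⟨Q, hQ⟩ := Finset.card_pos.mp (show 0 < (nearSet P).card by omega)
    exact ⟨Q, (Finset.mem_filter.mp hQ).2⟩
  have htrans : ∀ {A B C : Sylow 3 G}, Near A B → Near A C → C ≠ B → Near B C := by
    intro A B C hAB hAC hne
    have h1 := inter_unique hn hAB hAC
    exact (Near.inter_eq hAB.symm hne (by rw [inf_comm, h1]; exact inf_le_right)).2
  let cl : Sylow 3 G → Finset (Sylow 3 G) := fun X => insert X (nearSet X)
  have hcl : ∀ X Y : Sylow 3 G, Y ∈ cl X → cl Y = cl X := by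
    intro X Y hY
    rcases Finset.mem_insert.mp hY with rfl | hY
    · rfl
    have hXY := (Finset.mem_filter.mp hY).2
    ext Z
    simp only [cl, nearSet, Finset.mem_insert, Finset.mem_filter, Finset.mem_univ, true_and]
    constructor
    · rintro (rfl | hZ)
      · exact Or.inr hXY
      · exact or_iff_not_imp_left.mpr fun h => htrans hXY.symm hZ h
    · rintro (rfl | hZ)
      · exact Or.inr hXY.symm
      · exact or_iff_not_imp_left.mpr fun h => htrans hXY hZ h
  have hdvd : ((nearSet P).card + 1) ∣ 22 := by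
    rw [← hn, Nat.card_eq_fintype_card, ← Finset.card_univ,
      Finset.card_eq_sum_card_image cl Finset.univ]
    refine Finset.dvd_sum fun O hO => ?_
    obtain ⟨X, -, rfl⟩ := Finset.mem_image.mp hO
    have h1 : (Finset.univ.filter fun Y => cl Y = cl X) = cl X := by
      ext Y
      simp only [Finset.mem_filter, Finset.mem_univ, true_and]
      exact ⟨fun h => h ▸ Finset.mem_insert_self _ _, hcl X Y⟩
    rw [h1, Finset.card_insert_of_notMem (fun h => (Finset.mem_filter.mp h).2.1 rfl),
      card_nearSet_eq X P]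
  have h22 : (nearSet P).card = 21 := by
    have h1 := card_nearSet_mod hn P
    have h2 : (nearSet P).card + 1 ≤ 22 := Nat.le_of_dvd (by norm_num) hdvd
    rcases (show (nearSet P).card = 3 ∨ (nearSet P).card = 12 ∨ (nearSet P).card = 21 by omega)
      with h | h | h
    · rw [h] at hdvd; norm_num at hdvd
    · rw [h] at hdvd; norm_num at hdvd
    · exact h
  have hall : ∀ X : Sylow 3 G, X ≠ P → Near P X := by
    intro X hX
    have hu : nearSet P = Finset.univ.erase P := by
      refine Finset.eq_of_subset_of_card_le (fun Y hY => ?_) ?_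
      · exact Finset.mem_erase.mpr ⟨(Finset.mem_filter.mp hY).2.1, Finset.mem_univ _⟩
      · rw [Finset.card_erase_of_mem (Finset.mem_univ _), Finset.card_univ, ← Nat.card_eq_fintype_card,
          hn, h22]
    have : X ∈ nearSet P := hu ▸ Finset.mem_erase.mpr ⟨hX, Finset.mem_univ _⟩
    exact (Finset.mem_filter.mp this).2
  obtain ⟨Q, hQ⟩ := hex P
  let I : Subgroup G := ⨅ R : Sylow 3 G, (R : Subgroup G)
  have hI : I.Normal := by
    refine ⟨fun x hx g => ?_⟩
    simp only [I, Subgroup.mem_iInf] at hx ⊢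
    intro R
    have h1 := hx (g⁻¹ • R)
    rw [Sylow.coe_subgroup_smul, Subgroup.mem_pointwise_smul_iff_inv_smul_mem] at h1
    simpa [MulAut.smul_def, mul_assoc] using h1
  have hD : (P : Subgroup G) ⊓ Q = ⊥ := by
    refine le_bot_iff.mp (hcore I hI (P.isPGroup'.to_le (iInf_le _ P)) ▸ le_iInf fun R => ?_)
    by_cases hR : R = P
    · rw [hR]; exact inf_le_left
    · rw [inter_unique hn hQ (hall R hR)]; exact inf_le_right
  have h1 := card_inter_mul hQ
  rw [hD, Subgroup.card_bot, one_mul] at h1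
  exact h1.symm

end Cfsg.Agent.SylowNum
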